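import Cfsg.Agent.S4709
import Cfsg.Agent.Blk.InvCount

/-! Abelian Sylow `2`-subgroups with free cyclic automizer: a nontrivial character of the
principal block has the Sylow subgroup in its kernel. -/

set_option autoImplicit false

namespace Cfsg.FT

open scoped ComplexConjugate Pointwise

universe u

theorem app4568_arith {ι : Type*} (X : Finset ι) (a n : ι → ℤ) {q m δ z k : ℤ}
    (hδ : δ = 1 ∨ δ = -1) (hn : ∀ i ∈ X, 0 < n i) (hle : ∀ i ∈ X, a i ≤ n i)
    (hge : ∀ i ∈ X, 0 ≤ n i + (q - 1) * a i) (h0 : ∀ i ∈ X, a i ≠ 0) {i₀ : ι} (h₀ : i₀ ∈ X)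
    (ha₀ : a i₀ = 1) (hn₀ : n i₀ = 1) (hs : ∑ i ∈ X, a i ^ 2 = m) (hq : (m + 1) ^ 2 ≤ q)
    (hz : 0 < z) (hk : 0 ≤ k) (hzk : z = δ * m + k * q)
    (he : ∑ i ∈ X, (a i : ℚ) ^ 3 / n i = δ * m ^ 2 / z) : ∀ i ∈ X, a i = n i := by
  have hm : 1 ≤ m := by
    have := Finset.single_le_sum (f := fun i => a i ^ 2) (fun i _ => sq_nonneg (a i)) h₀
    rwa [ha₀, hs] at this
  have hq1 : (0 : ℚ) < q - 1 := by
    have : (1 : ℤ) < q := by nlinarith
    have : (1 : ℚ) < q := by exact_mod_cast this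
    linarith
  have hs' : ∑ i ∈ X, (a i : ℚ) ^ 2 = m := by exact_mod_cast hs
  have hz' : (0 : ℚ) < z := by exact_mod_cast hz
  have h1 : ∀ i ∈ X, 0 ≤ (q - 1) * ((a i : ℚ) ^ 3 / n i) + (a i : ℚ) ^ 2 := fun i hi => by
    have h2 : (0 : ℚ) < n i := by exact_mod_cast hn i hi
    have h3 : (0 : ℚ) ≤ n i + (q - 1) * a i := by exact_mod_cast hge i hi
    rw [show (q - 1) * ((a i : ℚ) ^ 3 / n i) + (a i : ℚ) ^ 2 =
      (a i : ℚ) ^ 2 * (n i + (q - 1) * a i) / n i by field_simp; ring]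
    positivity
  have h2 := Finset.single_le_sum h1 h₀
  rw [Finset.sum_add_distrib, ← Finset.mul_sum, he, hs', ha₀, hn₀] at h2
  have h3 : (q - m) * z ≤ (q - 1) * (δ * m ^ 2) := by
    have h4 : ((q : ℚ) - m) * z ≤ (q - 1) * (δ * m ^ 2) := by
      rw [← le_div_iff₀ hz', mul_div_assoc]
      push_cast at h2
      linarith
    exact_mod_cast h4
  have hq2 : m + 1 ≤ q := by nlinarith
  obtain rfl : δ = 1 := by
    refine hδ.resolve_right ?_
    rintro rfl
    nlinarith [mul_pos (show 0 < q - m by omega) hz, mul_nonneg (show 0 ≤ q - 1 by omega)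
      (sq_nonneg m)]
  obtain rfl : k = 0 := by
    by_contra hk0
    have h4 : m + q ≤ z := by nlinarith [show 1 ≤ k by omega]
    have h5 : (q - m) * (m + q) ≤ (q - 1) * (1 * m ^ 2) :=
      (mul_le_mul_of_nonneg_left h4 (by omega)).trans h3
    have h6 : q * q ≤ q * m ^ 2 := by nlinarith
    have h7 := le_of_mul_le_mul_left h6 (by omega)
    nlinarith
  obtain rfl : z = m := by omega
  have h4 : ∀ i ∈ X, (a i : ℚ) ^ 3 / n i ≤ (a i : ℚ) ^ 2 := fun i hi => by
    have h5 : (0 : ℚ) < n i := by exact_mod_cast hn i hi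
    have h6 : (a i : ℚ) ≤ n i := by exact_mod_cast hle i hi
    rw [div_le_iff₀ h5, pow_succ]
    exact mul_le_mul_of_nonneg_left h6 (sq_nonneg _)
  intro i hi
  have h5 := (Finset.sum_eq_sum_iff_of_le h4).1 (by
    rw [he, hs']; push_cast; field_simp) i hi
  have h6 : (n i : ℚ) ≠ 0 := by exact_mod_cast (hn i hi).ne'
  have h7 : (a i : ℚ) ≠ 0 := by exact_mod_cast h0 i hi
  field_simp at h5
  exact_mod_cast h5

theorem app4568_arith2 {r m d δ z : ℤ} (hδ : δ = 1 ∨ δ = -1) (hr : 1 ≤ r) (hm : 1 < m)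
    (hz : 0 < z) (h1 : (d - δ) ^ 2 + (r - 1) * d ^ 2 + 1 = m + 1)
    (h2 : (r * d - δ) * z + 1 = 0) : False := by
  have h3 : z = 1 := Int.eq_one_of_dvd_one hz.le ⟨δ - r * d, by linarith⟩
  subst h3
  rcases hδ with rfl | rfl
  · have : d = 0 := (mul_eq_zero.1 (show r * d = 0 by linarith)).resolve_left (by omega)
    subst this
    omega
  · have h4 : r * d = -2 := by linarith
    have h5 : r ≤ 2 := Int.le_of_dvd (by norm_num) ⟨-d, by linarith⟩
    interval_cases r
    · obtain rfl : d = -2 := by omega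
      omega
    · obtain rfl : d = -1 := by omega
      omega

variable {G : Type u} [Group G] [Finite G]

omit [Finite G] in
theorem app4568_isConj_of_odd {s t : G} (hs : s * s = 1) (ht : t * t = 1)
    (h : ¬ 2 ∣ orderOf (s * t)) : IsConj s t := by
  obtain ⟨k, hk⟩ := Nat.not_even_iff_odd.1 (mt even_iff_two_dvd.1 h)
  have h1 : s * (s * t) * s⁻¹ = (s * t)⁻¹ := by
    rw [← mul_assoc, hs, one_mul, mul_inv_rev, inv_eq_of_mul_eq_one_right ht]
  have h2 : (s * t) ^ k * (s * t) ^ k * (s * t) = 1 := by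
    rw [← pow_add, ← pow_succ, ← two_mul, ← hk, pow_orderOf_eq_one]
  have h3 : s * ((s * t) ^ k)⁻¹ * s⁻¹ = (s * t) ^ k := by
    rw [← inv_pow, ← h1, conj_pow, ← mul_assoc, ← mul_assoc, hs, one_mul, mul_assoc,
      ← mul_inv_rev, hs, inv_one, mul_one]
  refine isConj_iff.2 ⟨(s * t) ^ k, ?_⟩
  calc _ = (s * t) ^ k * (s * ((s * t) ^ k)⁻¹ * s⁻¹) * s := by group
    _ = (s * t) ^ k * (s * t) ^ k * (s * t) * ((s * t)⁻¹ * s) := by rw [h3]; group
    _ = t := by rw [h2, one_mul, mul_inv_rev, inv_mul_cancel_right, inv_eq_of_mul_eq_one_right ht]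

theorem app4568_sq_pPart (P : Sylow 2 G) [IsMulCommutative (P : Subgroup G)] {s t : G}
    (hs : orderOf s = 2) (ht : orderOf t = 2) : pPart 2 (s * t) * pPart 2 (s * t) = 1 := by
  have := Fact.mk Nat.prime_two
  have h1 : s * pPart 2 (s * t) * s⁻¹ = (pPart 2 (s * t))⁻¹ := by
    rw [← pPart_conj, ← pPart_inv, ← mul_assoc, mul_self_eq_one_of_orderOf_two hs, one_mul,
      mul_inv_rev, inv_eq_of_mul_eq_one_right (mul_self_eq_one_of_orderOf_two ht)]
  set y := pPart 2 (s * t)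
  have h2 : IsPGroup 2 (Subgroup.zpowers s ⊔ Subgroup.zpowers y : Subgroup G) :=
    (isPGroup_zpowers_iff.2 ⟨1, hs⟩).to_sup_of_normal_right' (isPGroup_zpowers_pPart _) (by
      rw [Subgroup.zpowers_le, ← conj_smul_eq_iff_mem_normalizer, conj_smul_eq_map,
        MonoidHom.map_zpowers]
      change Subgroup.zpowers (s * y * s⁻¹) = _
      rw [h1, Subgroup.zpowers_inv])
  obtain ⟨c, hc⟩ := exists_conj_le_sylow P h2
  have h3 := setLike_mul_comm
    (mem_conj_smul_iff.1 (hc (Subgroup.mem_sup_left (Subgroup.mem_zpowers s))))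
    (mem_conj_smul_iff.1 (hc (Subgroup.mem_sup_right (Subgroup.mem_zpowers y))))
  have h4 : s * y = y * s := by
    calc s * y = c * (c⁻¹ * s * c * (c⁻¹ * y * c)) * c⁻¹ := by group
      _ = y * s := by rw [h3]; group
  rw [h4, mul_inv_cancel_right] at h1
  exact mul_eq_one_iff_eq_inv.2 h1

theorem app4568_exists_sum_eq {χ : G → ℂ} (hχ : IsCharacter G χ) (P : Subgroup G) [Fintype P] :
    ∃ n : ℕ, ∑ y : P, χ y = n * Nat.card P := by
  obtain ⟨n, hn⟩ := (hχ.res P).exists_classInner_eq_nat (IrrCharacter.triv P).isCharacter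
  refine ⟨n, ?_⟩
  have h0 : (Nat.card P : ℂ) ≠ 0 := Nat.cast_ne_zero.2 Nat.card_pos.ne'
  rw [← hn, classInner_def]
  simp only [IrrCharacter.triv_apply, map_one, mul_one]
  field_simp

theorem app4568_group (P : Sylow 2 G) [IsMulCommutative (P : Subgroup G)]
    (hfrob : ∀ y : G, y ∈ (P : Subgroup G) → y ≠ 1 →
      Subgroup.centralizer ({y} : Set G) ⊓ Subgroup.normalizer ((P : Subgroup G) : Set G) =
        Subgroup.centralizer ((P : Subgroup G) : Set G)) {m : ℕ}
    (hCN : (Subgroup.centralizer ((P : Subgroup G) : Set G)).relIndex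
      (Subgroup.normalizer ((P : Subgroup G) : Set G)) = m)
    (hm2 : m + 1 < Nat.card (P : Subgroup G))
    (hconj : ∀ s t : G, orderOf s = 2 → orderOf t = 2 → IsConj s t) :
    (m + 1) ^ 2 ≤ Nat.card (P : Subgroup G) ∧ ∃ ψ : (P : Subgroup G) →* ℂˣ, ψ ≠ 1 ∧
      ∀ w : (P : Subgroup G), w * w = 1 → ψ w = 1 := by
  classical
  have := Fact.mk Nat.prime_two
  let sq : (P : Subgroup G) →* (P : Subgroup G) := MonoidHom.mk' (fun w => w * w) fun a b => by
    rw [mul_assoc, ← mul_assoc b, mul_comm' b a]; group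
  have horb : ∀ t : (P : Subgroup G), orderOf t = 2 → (sq.ker : Set (P : Subgroup G)) =
      insert 1 (MulAction.orbit (Subgroup.normalizer ((P : Subgroup G) : Set G)) t) := by
    intro t ht
    ext w
    constructor
    · intro hw
      by_cases hw1 : w = 1
      · exact Or.inl hw1
      obtain ⟨c, hc⟩ := isConj_iff.1 (hconj t w (by rwa [Subgroup.orderOf_coe])
        (by rw [Subgroup.orderOf_coe]; exact orderOf_eq_prime (by rw [pow_two]; exact hw) hw1))
      obtain ⟨n, hn, e⟩ := P.conj_eq_normalizer_conj_of_mem t c⁻¹ t.2 (by rw [inv_inv, hc]; exact w.2)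
      rw [inv_inv, hc] at e
      exact Or.inr ⟨⟨n, hn⟩⁻¹, Subtype.ext (by
        rw [e]; change n⁻¹ * t * n⁻¹⁻¹ = _; rw [inv_inv])⟩
    · rintro (rfl | ⟨n, rfl⟩)
      · exact one_mem _
      · change n • t * n • t = 1
        rw [← smul_mul', ← pow_two, orderOf_dvd_iff_pow_eq_one.1 ht.dvd, smul_one]
  have hker : Nat.card sq.ker = m + 1 := by
    obtain ⟨t, ht⟩ := exists_prime_orderOf_dvd_card' (G := (P : Subgroup G)) 2
      (dvd_card_of_isPGroup_of_ne_bot P.isPGroup' fun h => by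
        rw [h, Subgroup.card_bot] at hm2; omega)
    have ht1 : t ≠ 1 := fun h => by rw [h, orderOf_one] at ht; omega
    change (sq.ker : Set (P : Subgroup G)).ncard = _
    rw [horb t ht, Set.ncard_insert_of_notMem, ← MulAction.index_stabilizer,
      stabilizer_eq_of_frob hfrob ht1, ← hCN]
    · rfl
    · rintro ⟨n, hn⟩
      exact ht1 (by rw [← inv_smul_smul n t, show n • t = 1 from hn, smul_one])
  obtain ⟨w, hw⟩ : ∃ w : (P : Subgroup G), w * w ≠ 1 := by
    by_contra h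
    push Not at h
    rw [(Subgroup.eq_top_iff' sq.ker).2 h, Subgroup.card_top] at hker
    omega
  constructor
  · obtain ⟨u, ⟨v, rfl⟩, hu⟩ := exists_orderOf_eq_prime_of_dvd_card (p := 2) (H := sq.range)
      (dvd_card_of_isPGroup_of_ne_bot (P.isPGroup'.to_subgroup _) fun h =>
        hw ((Subgroup.eq_bot_iff_forall _).1 h _ ⟨w, rfl⟩))
    have h1 : sq.ker ≤ sq.range := fun x hx => by
      rcases (horb _ hu).le hx with rfl | ⟨n, rfl⟩
      · exact one_mem _
      · exact ⟨n • v, (smul_mul' n v v).symm⟩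
    rw [← sq.ker.card_mul_index, Subgroup.index_ker, pow_two, ← hker]
    exact Nat.mul_le_mul_left _ (Subgroup.card_le_of_le h1)
  · have := Fintype.ofFinite ((P : Subgroup G) →* ℂˣ)
    obtain ⟨l, hl⟩ : ∃ l : (P : Subgroup G) →* ℂˣ, l (w * w) ≠ 1 := by
      by_contra h
      push Not at h
      have h1 := sum_unitsHom_apply (w * w)
      simp only [h, hw, if_false, Units.val_one, Finset.sum_const, Finset.card_univ, nsmul_eq_mul,
        mul_one, Nat.cast_eq_zero] at h1
      exact Fintype.card_ne_zero h1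
    exact ⟨l.comp sq, fun h => hl (DFunLike.congr_fun h w), fun x hx => by
      change l (x * x) = 1
      rw [hx, map_one]⟩

theorem app4568_le_ker {M : Ideal AlgInt} (hM : IsPModular 2 M) (P : Sylow 2 G)
    [hab : IsMulCommutative (P : Subgroup G)]
    (hfrob : ∀ y : G, y ∈ (P : Subgroup G) → y ≠ 1 →
      Subgroup.centralizer ({y} : Set G) ⊓ Subgroup.normalizer ((P : Subgroup G) : Set G) =
        Subgroup.centralizer ((P : Subgroup G) : Set G)) {m : ℕ} (hm1 : 1 < m)
    (hCN : (Subgroup.centralizer ((P : Subgroup G) : Set G)).relIndex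
      (Subgroup.normalizer ((P : Subgroup G) : Set G)) = m)
    (hm2 : m + 1 < Nat.card (P : Subgroup G))
    (hcyc : ∃ g : G, g ∈ Subgroup.normalizer ((P : Subgroup G) : Set G) ∧
      Subgroup.centralizer ((P : Subgroup G) : Set G) ⊔ Subgroup.zpowers g =
        Subgroup.normalizer ((P : Subgroup G) : Set G)) :
    ∃ χ : IrrCharacter G, charKer χ.1 ≠ ⊤ ∧ (P : Subgroup G) ≤ charKer χ.1 := by
  classical
  have := Fact.mk Nat.prime_two
  have := Fintype.ofFinite G
  obtain ⟨s, X, Y, -, -, -, -, -, ⟨χ₁, hχ₁, e₁⟩, a, d, δ, ζ, hδ, hX, hζ, -, -, hζv, hsum, -, hrel⟩ :=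
    Cfsg.Agent.S4709.result 2 M hM P hab (fun h => by
      change Nat.card (P : Subgroup G) = 1 at h; omega) m hm1 hm2 hCN hcyc hfrob
  change (d - δ) ^ 2 + ((Nat.card (P : Subgroup G) - 1) / m - 1 : ℤ) * d ^ 2 + _ = _ at hsum
  change ∀ η ∈ Y, ∀ g, _ → ((((Nat.card (P : Subgroup G) - 1) / m : ℕ) : ℂ) * _ - _) * _ + _ = 0
    at hrel
  change ∀ ψ, _ → ∀ z y, _ → _ → _ = _ + _ * ∑ᶠ ψ' ∈ dualOrbit _ ψ, _ at hζv
  simp only [finsum_mem_irr] at hsum hrel
  set q := Nat.card (P : Subgroup G) with hq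
  have hr : ((q : ℤ) - 1) / m = ((q - 1) / m : ℕ) := by
    push_cast [show 1 ≤ q by omega]
    rfl
  rw [hr] at hsum
  obtain ⟨r, hr'⟩ : ∃ r : ℕ, (q - 1) / m = r := ⟨_, rfl⟩
  rw [hr'] at hsum hrel
  have hP2 : ∀ y ∈ (P : Subgroup G), IsPPart 2 y y := fun y hy =>
    isPPart_iff.2 (pPart_eq_self_iff.2 (exists_orderOf_eq_pow_of_mem P.isPGroup' hy)).symm
  have hconjP : ∀ g : G, ∃ c : G, pPart 2 (c * g * c⁻¹) ∈ (P : Subgroup G) := fun g => by
    obtain ⟨c, hc⟩ := exists_conj_mem_sylow P (exists_orderOf_pPart g)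
    exact ⟨c, by rwa [pPart_conj]⟩
  have hXv : ∀ χ ∈ X, ∀ g : G, 2 ∣ orderOf g → χ.1 g = a χ := fun χ hχ g hg => by
    obtain ⟨c, hc⟩ := hconjP g
    rw [← (hX χ hχ).2 _ _ (isPPart_pPart _) hc (pPart_ne_one_iff.2 (by
      rwa [show c * g * c⁻¹ = MulAut.conj c g from rfl, MulEquiv.orderOf_eq]))]
    exact (χ.isClassFunction g c).symm
  obtain ⟨t, htP, ht⟩ := exists_orderOf_eq_prime_of_dvd_card (p := 2) (H := (P : Subgroup G))
    (dvd_card_of_isPGroup_of_ne_bot P.isPGroup' fun h => by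
      rw [h, Subgroup.card_bot] at hq; omega)
  have ha₁ : a χ₁ = 1 := by
    have := hXv χ₁ hχ₁ t ht.symm.dvd
    rw [congrFun e₁ t] at this
    exact_mod_cast this.symm
  have hd₁ : charDegree χ₁.1 = 1 := by
    have := χ₁.one_eq_charDegree
    rw [congrFun e₁ 1] at this
    exact_mod_cast this.symm
  have hI : ∀ s t : G, ∑ s' : G with IsConj s s', ∑ t' : G with IsConj t t', (1 : ℂ) =
      ((Subgroup.centralizer ({s} : Set G)).index : ℂ) *
        ((Subgroup.centralizer ({t} : Set G)).index : ℂ) := fun s t => by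
    simpa only [IrrCharacter.triv_apply, one_mul, mul_one] using
      (IrrCharacter.triv G).one_mul_sum_sum_isConj s t
  have hI0 : ∀ s : G, ((Subgroup.centralizer ({s} : Set G)).index : ℂ) ≠ 0 := fun s =>
    Nat.cast_ne_zero.2 Subgroup.index_ne_zero_of_finite
  suffices h : ∀ χ ∈ X, a χ = charDegree χ.1 by
    obtain ⟨χ, hχ, hne⟩ : ∃ χ ∈ X, χ ≠ χ₁ := by
      by_contra hcon
      push Not at hcon
      have hX1 : irrFinset X = {χ₁} := by
        ext χ
        rw [mem_irrFinset, Finset.mem_singleton]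
        exact ⟨hcon χ, fun h => h ▸ hχ₁⟩
      have : Finite ((P : Subgroup G) →* ℂˣ) := inferInstance
      have : Nontrivial ((P : Subgroup G) →* ℂˣ) := Finite.one_lt_card_iff_nontrivial.1 (by
        rw [card_unitsHom_of_comm]; omega)
      obtain ⟨ψ, hψ⟩ := exists_ne (1 : (P : Subgroup G) →* ℂˣ)
      have h1 := hrel _ (hζ ψ hψ) 1 (by simp)
      rw [hX1, Finset.sum_singleton, ha₁, e₁, IrrCharacter.one_eq_charDegree] at h1
      rw [hX1, Finset.sum_singleton, ha₁] at hsum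
      refine app4568_arith2 (r := r) (m := m) (d := d)
        (z := charDegree (ζ ψ).1) hδ ?_ (by exact_mod_cast hm1)
        (by exact_mod_cast (ζ ψ).charDegree_pos) (by simpa using hsum) ?_
      · exact_mod_cast hr' ▸ (Nat.one_le_div_iff (by omega)).2 (by omega)
      · apply Int.cast_injective (α := ℂ)
        simpa using h1
    refine ⟨χ, fun h0 => hne ((χ.charKer_eq_top_iff.1 h0).trans (Subtype.ext e₁.symm)),
      fun y hy => χ.mem_charKer.2 ?_⟩
    by_cases hy1 : y = 1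
    · rw [hy1]
    · rw [(hX χ hχ).2 y y (hP2 y hy) hy hy1, h χ hχ, χ.one_eq_charDegree, Int.cast_natCast]
  by_cases hconj : ∀ s t : G, orderOf s = 2 → orderOf t = 2 → IsConj s t
  swap
  · push Not at hconj
    obtain ⟨u, v, hu, hv, huv⟩ := hconj
    intro χ hχ
    have h1 := χ.one_mul_sum_sum_isConj u v
    rw [Finset.sum_congr rfl (g := fun _ => ∑ t' : G with IsConj v t', (1 : ℂ) * a χ)
      fun s' hs' => Finset.sum_congr rfl fun t' ht' => ?_] at h1
    · simp only [← Finset.sum_mul, hI, hXv χ hχ u hu.symm.dvd, hXv χ hχ v hv.symm.dvd,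
        χ.one_eq_charDegree] at h1
      have h2 : (a χ : ℂ) ≠ 0 := Int.cast_ne_zero.2 (hX χ hχ).1
      have h3 := hI0 u
      have h4 := hI0 v
      field_simp at h1
      exact_mod_cast h1.symm
    · rw [Finset.mem_filter] at hs' ht'
      rw [one_mul]
      refine hXv χ hχ _ (by_contra fun h => huv ?_)
      exact (hs'.2.trans (app4568_isConj_of_odd
        (mul_self_eq_one_of_orderOf_two ((orderOf_eq_of_isConj hs'.2).trans hu))
        (mul_self_eq_one_of_orderOf_two ((orderOf_eq_of_isConj ht'.2).trans hv)) h)).trans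
        ht'.2.symm
  obtain ⟨hq2, ψ, hψ, hψ1⟩ := app4568_group P hfrob hCN hm2 hconj
  have hfin : (dualOrbit _ ψ).Finite := Set.toFinite _
  have hcard : hfin.toFinset.card = m := by
    rw [← hCN, ← card_dualOrbit hfrob hψ, Nat.card_coe_set_eq, Set.ncard_eq_toFinset_card _ hfin]
  have hv := hζv ψ hψ
  simp only [finsum_mem_eq_finite_toFinset_sum _ hfin] at hv
  have hone : 1 ≤ ∑ χ ∈ irrFinset X, a χ ^ 2 := by
    have := Finset.single_le_sum (f := fun χ => a χ ^ 2) (fun χ _ => sq_nonneg (a χ))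
      (mem_irrFinset.2 hχ₁)
    rwa [ha₁] at this
  obtain rfl : d = 0 := by
    by_contra hd
    have h1 : m + 2 ≤ r := hr' ▸ (Nat.le_div_iff_mul_le (by omega)).2 (by
      have : (m + 2) * m + 1 = (m + 1) ^ 2 := by ring
      omega)
    have h2 : (m : ℤ) + 2 ≤ r := by exact_mod_cast h1
    have h3 : 1 ≤ d ^ 2 := (one_le_sq_iff_one_le_abs d).2 (Int.one_le_abs hd)
    nlinarith [sq_nonneg (d - δ)]
  have hδ2 : δ ^ 2 = 1 := by rcases hδ with rfl | rfl <;> norm_num
  have hδ2' : (δ : ℂ) ^ 2 = 1 := by exact_mod_cast hδ2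
  have hs : ∑ χ ∈ irrFinset X, a χ ^ 2 = m := by linarith
  have hs' : ∑ χ ∈ irrFinset X, (a χ : ℂ) ^ 2 = m := by exact_mod_cast hs
  have hηv : ∀ g : G, 2 ∣ orderOf g → pPart 2 g * pPart 2 g = 1 → (ζ ψ).1 g = δ * m := by
    intro g hg hg2
    obtain ⟨c, hc⟩ := hconjP g
    rw [← (ζ ψ).isClassFunction g c, hv _ ⟨_, hc⟩ (isPPart_pPart _) (pPart_ne_one_iff.2 (by
      rwa [show c * g * c⁻¹ = MulAut.conj c g from rfl, MulEquiv.orderOf_eq])),
      Finset.sum_congr rfl (g := fun _ => 1), Finset.sum_const, hcard]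
    · simp
    · intro ψ' h
      obtain ⟨n, hn, h'⟩ := hfin.mem_toFinset.1 h
      rw [h' ⟨n⁻¹ * pPart 2 (c * g * c⁻¹) * n⁻¹⁻¹,
        (Subgroup.mem_normalizer_iff.1 (inv_mem hn) _).1 hc⟩ _ (by simp only; group), hψ1,
        Units.val_one]
      refine Subtype.ext ?_
      change n⁻¹ * _ * n⁻¹⁻¹ * (n⁻¹ * _ * n⁻¹⁻¹) = 1
      rw [pPart_conj]
      calc _ = n⁻¹ * c * (pPart 2 g * pPart 2 g) * c⁻¹ * n := by group
        _ = 1 := by rw [hg2]; group
  have hθ : ∀ u v : G, orderOf u = 2 → orderOf v = 2 →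
      ∑ χ ∈ irrFinset X, (a χ : ℂ) * χ.1 (u * v) = δ * (ζ ψ).1 (u * v) := by
    intro u v hu hv
    by_cases h : 2 ∣ orderOf (u * v)
    · rw [hηv _ h (app4568_sq_pPart P hu hv), Finset.sum_congr rfl
        fun χ hχ => by rw [hXv χ (mem_irrFinset.1 hχ) _ h, ← sq], hs']
      linear_combination -(m : ℂ) * hδ2'
    · linear_combination hrel _ (hζ ψ hψ) _ h
  have hS : ∀ χ : IrrCharacter G, ∑ u : G with IsConj t u, ∑ v : G with IsConj t v, χ.1 (u * v) =
      ((Subgroup.centralizer ({t} : Set G)).index : ℂ) ^ 2 * (χ.1 t ^ 2 / charDegree χ.1) := by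
    intro χ
    have h1 := χ.one_mul_sum_sum_isConj t t
    have h2 : (charDegree χ.1 : ℂ) ≠ 0 := Nat.cast_ne_zero.2 χ.charDegree_pos.ne'
    rw [χ.one_eq_charDegree] at h1
    field_simp
    linear_combination h1
  have he : ∑ χ ∈ irrFinset X, (a χ : ℂ) ^ 3 / charDegree χ.1 =
      δ * (m : ℂ) ^ 2 / charDegree (ζ ψ).1 := by
    have h1 : ∑ χ ∈ irrFinset X, (a χ : ℂ) *
        ∑ u : G with IsConj t u, ∑ v : G with IsConj t v, χ.1 (u * v) =
        δ * ∑ u : G with IsConj t u, ∑ v : G with IsConj t v, (ζ ψ).1 (u * v) := by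
      simp only [Finset.mul_sum]
      rw [Finset.sum_comm]
      refine Finset.sum_congr rfl fun u hu => ?_
      rw [Finset.sum_comm]
      exact Finset.sum_congr rfl fun v hv =>
        hθ u v ((orderOf_eq_of_isConj (Finset.mem_filter.1 hu).2).trans ht)
          ((orderOf_eq_of_isConj (Finset.mem_filter.1 hv).2).trans ht)
    simp only [hS] at h1
    rw [hηv t ht.symm.dvd (by
      rw [← (hP2 t htP).eq_pPart]; exact mul_self_eq_one_of_orderOf_two ht)] at h1
    apply mul_left_cancel₀ (pow_ne_zero 2 (hI0 t))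
    rw [Finset.mul_sum, Finset.sum_congr rfl fun χ hχ => ?_, h1, mul_pow, hδ2']
    · ring
    · rw [hXv χ (mem_irrFinset.1 hχ) t ht.symm.dvd]; ring
  have := Fintype.ofFinite (P : Subgroup G)
  have hsplit : ∀ f : ↥(P : Subgroup G) → ℂ,
      ∑ y, f y = f 1 + ∑ y ∈ Finset.univ.erase 1, f y := fun f =>
    (Finset.add_sum_erase _ _ (Finset.mem_univ _)).symm
  obtain ⟨k, hk⟩ := app4568_exists_sum_eq (ζ ψ).isCharacter (P : Subgroup G)
  have hzk : (charDegree (ζ ψ).1 : ℤ) = δ * m + k * q := by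
    rw [hsplit, Finset.sum_congr rfl fun (y : (P : Subgroup G)) hy => hv y y (hP2 y y.2)
      fun h => (Finset.mem_erase.1 hy).1 (Subtype.ext h)] at hk
    simp only [Int.cast_zero, zero_add, ← Finset.mul_sum] at hk
    rw [Finset.sum_comm, Finset.sum_congr rfl (g := fun _ => -1), Finset.sum_const, hcard,
      OneMemClass.coe_one, IrrCharacter.one_eq_charDegree] at hk
    · apply Int.cast_injective (α := ℂ)
      push_cast
      rw [nsmul_eq_mul] at hk
      linear_combination hk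
    · intro ψ' h
      have h1 : ψ' ≠ 1 := fun h0 => hψ (by
        obtain ⟨n, hn, h'⟩ := hfin.mem_toFinset.1 h
        refine MonoidHom.ext fun w => ?_
        rw [← h' w ⟨_, (Subgroup.mem_normalizer_iff.1 hn _).1 w.2⟩ rfl, h0]
        rfl)
      have h2 := (sum_hom_units_eq_zero ((Units.coeHom ℂ).comp ψ') fun h' => h1
        (MonoidHom.ext fun s => Units.ext (DFunLike.congr_fun h' s))).symm.trans
        (hsplit fun y => ψ' y)
      simp only [map_one, Units.val_one] at h2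
      linear_combination -h2
  intro χ hχ
  refine app4568_arith (irrFinset X) a (fun χ => charDegree χ.1) (q := q) (k := k) hδ
    (fun χ _ => by exact_mod_cast χ.charDegree_pos) (fun χ hχ => ?_) (fun χ hχ => ?_)
    (fun χ hχ => (hX χ (mem_irrFinset.1 hχ)).1) (mem_irrFinset.2 hχ₁) ha₁ (by simp [hd₁]) hs
    (by exact_mod_cast hq2) (by exact_mod_cast (ζ ψ).charDegree_pos) (by positivity) hzk ?_ χ
    (mem_irrFinset.2 hχ)
  · have h1 := χ.isCharacter.norm_le t
    rw [hXv χ (mem_irrFinset.1 hχ) t ht.symm.dvd, Complex.norm_intCast] at h1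
    exact_mod_cast (le_abs_self _).trans h1
  · obtain ⟨n, hn⟩ := app4568_exists_sum_eq χ.isCharacter (P : Subgroup G)
    rw [hsplit, Finset.sum_congr rfl fun (y : (P : Subgroup G)) hy =>
      (hX χ (mem_irrFinset.1 hχ)).2 y y (hP2 y y.2) y.2
      fun h => (Finset.mem_erase.1 hy).1 (Subtype.ext h), Finset.sum_const,
      Finset.card_erase_of_mem (Finset.mem_univ _), Finset.card_univ, ← Nat.card_eq_fintype_card,
      OneMemClass.coe_one, IrrCharacter.one_eq_charDegree, nsmul_eq_mul,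
      Nat.cast_sub (by omega)] at hn
    have h1 : (charDegree χ.1 : ℤ) + (q - 1) * a χ = n * q := by
      apply Int.cast_injective (α := ℂ)
      push_cast at hn ⊢
      exact hn
    rw [h1]
    positivity
  · apply Rat.cast_injective (α := ℂ)
    push_cast
    exact he

end Cfsg.FT
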