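import Cfsg.Agent.FT.App.A4568a
import Cfsg.Agent.FT.I.FTthm
import Cfsg.Agent.FT.Base.BG1
import Cfsg.Agent.S4570
import Cfsg.Agent.S4571
import Cfsg.Agent.Blk.GlueGram
import Cfsg.Agent.Blk.MultFree

/-! Abelian Sylow `2`-subgroups with automizer of prime order. -/

set_option autoImplicit false

namespace Cfsg.FT

open scoped Pointwise

universe u

variable {G : Type u} [Group G] [Finite G]

local notation "Ce[" P "]" => Subgroup.centralizer (SetLike.coe P)
local notation "No[" P "]" => Subgroup.normalizer (SetLike.coe P)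

omit [Finite G] in
theorem app4568_relIndex_dvd {C X N : Subgroup G} (hCN : C ≤ N) (hXN : X ≤ N) (hN : N ≤ No[C]) :
    C.relIndex X ∣ C.relIndex N := by
  rw [← relIndex_sup_of_le_normalizer (hXN.trans hN)]
  exact ⟨_, (Subgroup.relIndex_mul_relIndex C (C ⊔ X) N le_sup_left (sup_le hCN hXN)).symm⟩

omit [Finite G] in
theorem app4568_sup_zpowers {C N : Subgroup G} (hCN : C ≤ N) (he : (C.relIndex N).Prime) {x : G}
    (hx : x ∈ N) (hx' : x ∉ C) : C ⊔ Subgroup.zpowers x = N := by
  have h1 : C ⊔ Subgroup.zpowers x ≤ N := sup_le hCN (Subgroup.zpowers_le.2 hx)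
  rw [← Subgroup.relIndex_mul_relIndex C _ N le_sup_left h1] at he
  rcases Nat.prime_mul_iff.1 he with ⟨-, h⟩ | ⟨-, h⟩
  · exact le_antisymm h1 (Subgroup.relIndex_eq_one.1 h)
  · exact absurd (Subgroup.relIndex_eq_one.1 h
      (Subgroup.mem_sup_right (Subgroup.mem_zpowers x))) hx'

/-- groups with abelian Sylow `2`-subgroups and a free non-transitive automizer are solvable -/
def App4568Free (e : ℕ) (G : Type u) [Group G] : Prop :=
  ∀ P : Sylow 2 G, IsMulCommutative (P : Subgroup G) →
    (∀ y ∈ (P : Subgroup G), y ≠ 1 → ∀ n ∈ No[(P : Subgroup G)], n * y = y * n →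
      n ∈ Ce[(P : Subgroup G)]) →
    (Ce[(P : Subgroup G)]).relIndex No[(P : Subgroup G)] ∣ e →
    e + 1 < Nat.card (P : Subgroup G) → Group.IsSolvable G

theorem App4568Free.rel {e : ℕ} {H Q : Subgroup G} (h : App4568Free e H) (hQH : Q ≤ H)
    (hQ : IsPGroup 2 Q) (hQi : ¬ 2 ∣ Q.relIndex H) [IsMulCommutative Q]
    (hfree : ∀ y ∈ Q, y ≠ 1 → ∀ n ∈ No[Q], n * y = y * n → n ∈ Ce[Q])
    (hdiv : (Ce[Q]).relIndex No[Q] ∣ e) (hlt : e + 1 < Nat.card Q) : Group.IsSolvable H := by
  have := Fact.mk Nat.prime_two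
  obtain ⟨S, hS⟩ := exists_sylow_eq_of_not_dvd_index (isPGroup_subgroupOf hQ H) hQi
  refine h S (hS ▸ inferInstance) ?_ ?_ (by rwa [hS, card_subgroupOf_of_le hQH])
  · rw [hS, centralizer_subgroupOf hQH, ← Subgroup.subgroupOf_normalizer_eq hQH]
    exact fun y hy hy1 n hn h => hfree y hy (fun h => hy1 (Subtype.ext h)) n hn
      (congrArg Subtype.val h)
  · rw [hS, centralizer_subgroupOf hQH, ← Subgroup.subgroupOf_normalizer_eq hQH,
      ← Subgroup.inf_subgroupOf_right No[Q], Subgroup.relIndex_subgroupOf inf_le_right]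
    exact (app4568_relIndex_dvd (Subgroup.centralizer_le_normalizer _) inf_le_left
      (normalizer_le_normalizer_centralizer' Q)).trans hdiv

theorem app4568_solv_of_not_dvd [FTthm.{u}] (h : ¬ 2 ∣ Nat.card G) : Group.IsSolvable G :=
  FTthm.out G (Nat.not_even_iff_odd.1 (mt even_iff_two_dvd.1 h))

omit [Finite G] in
theorem app4568_solv_ext {N : Subgroup G} [N.Normal] (h1 : Group.IsSolvable N)
    (h2 : Group.IsSolvable (G ⧸ N)) : Group.IsSolvable G :=
  Group.isSolvable_of_ker_le_range N.subtype (QuotientGroup.mk' N) (by simp)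

variable {M : Ideal AlgInt}

theorem app4568_free [FTthm.{u}] (hM : IsPModular 2 M) {e : ℕ} (he : e.Prime) (G : Type u)
    [Group G] [Finite G] : App4568Free e G := by
  have := Fact.mk Nat.prime_two
  refine induction_on_card (P := fun G _ _ => App4568Free e G) ?_ G
  intro G _ _ ih P hab hfree hdiv hlt
  have hCN : Ce[(P : Subgroup G)] ≤ No[(P : Subgroup G)] := Subgroup.centralizer_le_normalizer _
  rcases (Nat.dvd_prime he).1 hdiv with h1 | h1
  · have h2 := hasNormalPComplement_iff_isPGroup_quotient.1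
      (hasNormalPComplement_of_normalizer_le_centralizer P (Subgroup.relIndex_eq_one.1 h1))
    exact app4568_solv_ext (app4568_solv_of_not_dvd (not_dvd_card_pPrimeCore 2))
      (isSolvable_of_isPGroup h2)
  obtain ⟨g, hg, hg'⟩ : ∃ g ∈ No[(P : Subgroup G)], g ∉ Ce[(P : Subgroup G)] := by
    by_contra h
    push Not at h
    exact he.ne_one (h1.symm.trans (Subgroup.relIndex_eq_one.2 h))
  obtain ⟨χ, hχ, hP⟩ := app4568_le_ker hM P (fun y hy hy1 => le_antisymm
    (fun n hn => hfree y hy hy1 n hn.2 (Subgroup.mem_centralizer_singleton_iff.1 hn.1))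
    (le_inf (Subgroup.centralizer_le (Set.singleton_subset_iff.2 hy)) hCN)) he.one_lt h1 hlt
    ⟨g, hg, app4568_sup_zpowers hCN (h1 ▸ he) hg hg'⟩
  refine app4568_solv_ext (N := charKer χ.1) ((ih _ (card_lt_of_ne_top hχ)).rel hP P.isPGroup'
    (not_dvd_relIndex_sylow_of_normal P _) hfree hdiv hlt) (app4568_solv_of_not_dvd fun h =>
      P.not_dvd_index (h.trans (Subgroup.index_dvd_of_le hP)))

variable (P : Sylow 2 G) [hab : IsMulCommutative (P : Subgroup G)]
  (he : ((Ce[(P : Subgroup G)]).relIndex No[(P : Subgroup G)]).Prime)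
include he

omit [Finite G] hab in
theorem app4568_semifree {y n : G} (hy : y ∉ Ce[No[(P : Subgroup G)]])
    (hyP : y ∈ (P : Subgroup G)) (hn : n ∈ No[(P : Subgroup G)]) (h : n * y = y * n) :
    n ∈ Ce[(P : Subgroup G)] := by
  by_contra hn'
  refine hy ?_
  rw [← app4568_sup_zpowers (Subgroup.centralizer_le_normalizer _) he hn hn', centralizer_sup,
    centralizer_zpowers]
  exact ⟨fun c hc => (hc y hyP).symm, Subgroup.mem_centralizer_singleton_iff.2 h.symm⟩

theorem app4568_card_le [FTthm.{u}] (hM : IsPModular 2 M) (hns : ¬ Group.IsSolvable G) :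
    Nat.card ((P : Subgroup G) ⊓ commutator G : Subgroup G) ≤
      (Ce[(P : Subgroup G)]).relIndex No[(P : Subgroup G)] + 1 := by
  have := Fact.mk Nat.prime_two
  by_contra hlt
  set Q := (P : Subgroup G) ⊓ commutator G with hQ
  have : IsMulCommutative Q := ⟨⟨fun a b => Subtype.ext (setLike_mul_comm a.2.1 b.2.1)⟩⟩
  have hPC : (P : Subgroup G) ≤ Ce[Q] :=
    (Subgroup.le_centralizer _).trans (Subgroup.centralizer_le inf_le_left)
  have hfr : ∀ n ∈ No[Q], ∃ c ∈ Ce[Q], ∃ x ∈ No[(P : Subgroup G)], c * x = n := fun n hn =>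
    frattini_argument' (normalizer_le_normalizer_centralizer' Q) hPC P.isPGroup'
      (fun h => P.not_dvd_index (h.trans (Subgroup.relIndex_dvd_index_of_le hPC))) hn
  have hNQ : No[(P : Subgroup G)] ≤ No[Q] := fun n hn => Subgroup.mem_normalizer_iff.2 fun x => by
    rw [hQ, Subgroup.mem_inf, Subgroup.mem_inf, ← Subgroup.mem_normalizer_iff.1 hn x,
      ← Subgroup.mem_normalizer_iff.1 (Subgroup.le_normalizer_of_normal (Subgroup.mem_top n)) x]
  refine hns (app4568_solv_ext (N := commutator G) ((app4568_free hM he _).rel inf_le_right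
    P.isPGroup'.to_inf_left ?_ ?_ ?_ (not_le.1 hlt))
    (inferInstanceAs (Group.IsSolvable (Abelianization G))))
  · rw [Subgroup.inf_relIndex_right]
    exact not_dvd_relIndex_sylow_of_normal P _
  · intro y hy hy1 n hn h
    obtain ⟨c, hc, x, hx, rfl⟩ := hfr n hn
    refine mul_mem hc (Subgroup.centralizer_le inf_le_left
      (app4568_semifree P he (fun h' => hy1 ?_) hy.1 hx ?_))
    · exact Subgroup.mem_bot.1
        ((sylow_inf_commutator_inf_centralizer_of_comm P hab).le ⟨hy, h'⟩)
    · rw [← mul_left_cancel_iff (a := c), ← mul_assoc, h, ← mul_assoc, ← mul_assoc, hc y hy]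
  · rw [show No[Q] = Ce[Q] ⊔ No[(P : Subgroup G)] from le_antisymm (fun n hn => by
        obtain ⟨c, hc, x, hx, rfl⟩ := hfr n hn
        exact Subgroup.mul_mem_sup hc hx) (sup_le (Subgroup.centralizer_le_normalizer _) hNQ),
      relIndex_sup_of_le_normalizer (hNQ.trans (normalizer_le_normalizer_centralizer' Q))]
    exact Subgroup.relIndex_dvd_of_le_left _ (Subgroup.centralizer_le inf_le_left)

omit he in
theorem app4568_odd : ¬ 2 ∣ (Ce[(P : Subgroup G)]).relIndex No[(P : Subgroup G)] := by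
  have := Fact.mk Nat.prime_two
  intro h
  exact P.not_dvd_index ((h.trans (Subgroup.relIndex_dvd_index_of_le
    (Subgroup.centralizer_le_normalizer _))).trans
    (Subgroup.index_dvd_of_le (Subgroup.le_centralizer _)))

theorem app4568_le_rank (hM : IsPModular 2 M) (hs : IsPSolvable 2 G) :
    (Ce[(P : Subgroup G)]).relIndex No[(P : Subgroup G)] ≤ blockRank 2 (principalBlock M G) := by
  have := Fact.mk Nat.prime_two
  set C := Ce[(P : Subgroup G)] with hC
  set N := No[(P : Subgroup G)] with hN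
  have hCN : C ≤ N := Subgroup.centralizer_le_normalizer _
  have htop := hs.sup_normalizer_of_comm P
  have hND : N ≤ No[(pPrimeCore 2 G ⊔ C : Subgroup G)] := fun n hn => by
    rw [← conj_smul_eq_iff_mem_normalizer, Subgroup.smul_sup, conj_smul_eq_iff_mem_normalizer.2
      (normalizer_le_normalizer_centralizer' _ hn), conj_smul_eq_iff_mem_normalizer.2
      (Subgroup.le_normalizer_of_normal (Subgroup.mem_top n))]
  have : (pPrimeCore 2 G ⊔ C).Normal := by
    rw [← Subgroup.normalizer_eq_top_iff, eq_top_iff, ← htop]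
    exact sup_le (le_sup_left.trans Subgroup.le_normalizer) hND
  have hi : (pPrimeCore 2 G ⊔ C).index = C.relIndex N := by
    rw [← Subgroup.relIndex_top_right, show (⊤ : Subgroup G) = (pPrimeCore 2 G ⊔ C) ⊔ N by
      rw [sup_assoc, sup_eq_right.2 hCN, htop], relIndex_sup_of_le_normalizer hND,
      ← Subgroup.inf_relIndex_right, sup_inf_of_le_normalizer' Subgroup.le_normalizer_of_normal hCN,
      coprime_norm_cent Subgroup.le_normalizer_of_normal
        (coprime_card_of_isPGroup P.isPGroup' (not_dvd_card_pPrimeCore 2)).symm,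
      sup_eq_right.2 inf_le_right]
  have hc : Nat.card (G ⧸ (pPrimeCore 2 G ⊔ C)) = C.relIndex N := hi
  have : Fact (C.relIndex N).Prime := ⟨he⟩
  have := isCyclic_of_prime_card hc
  refine le_trans (le_of_eq ?_) (blockRank_mono (U := IrrCharacter.inflate
    (pPrimeCore 2 G ⊔ C) '' Set.univ) ?_)
  · rw [blockRank_image_inflate Nat.prime_two, blockRank_univ_eq Nat.prime_two,
      Nat.card_congr (Equiv.subtypeUnivEquiv fun K h => app4568_odd P
        (hc ▸ h.trans (orderOf_dvd_natCard _))), ← card_irrCharacter, card_irr_of_comm, hc]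
  · rintro _ ⟨χ, -, rfl⟩
    exact (hs.mem_principalBlock_iff hM _).2 (le_sup_left.trans (χ.le_charKer_inflate _))

theorem app4568_formula (hM : IsPModular 2 M) :
    Nat.card (principalBlock M G) * (Ce[(P : Subgroup G)]).relIndex No[(P : Subgroup G)] +
      Nat.card ((P : Subgroup G) ⊓ Ce[No[(P : Subgroup G)]] : Subgroup G) =
      Nat.card ((P : Subgroup G) ⊓ Ce[No[(P : Subgroup G)]] : Subgroup G) *
        blockRank 2 (principalBlock M G) * (Ce[(P : Subgroup G)]).relIndex No[(P : Subgroup G)] +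
        Nat.card (P : Subgroup G) := by
  have := Fact.mk Nat.prime_two
  obtain ⟨e, S⟩ := hM.exists_starSetup_principal P
  have h := S.card_mul_of_semifree (Subgroup.le_centralizer _)
    ((Ce[No[(P : Subgroup G)]]).subgroupOf P : Subgroup (P : Subgroup G))
  rw [S.pairStab_principal] at h
  rw [inf_comm, ← card_subgroupOf]
  exact h (fun v hv t ht => mul_inv_eq_iff_eq_mul.2 (hv t ht)) fun v hv t ht h =>
    app4568_semifree P he hv v.2 ht (mul_inv_eq_iff_eq_mul.1 h)

theorem app4568_le_card (hM : IsPModular 2 M) :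
    (Ce[(P : Subgroup G)]).relIndex No[(P : Subgroup G)] + 1 ≤
      Nat.card ((P : Subgroup G) ⊓ commutator G : Subgroup G) ∧
    Nat.card ((P : Subgroup G) ⊓ commutator G : Subgroup G) *
      Nat.card ((P : Subgroup G) ⊓ Ce[No[(P : Subgroup G)]] : Subgroup G) =
      Nat.card (P : Subgroup G) := by
  have := Fact.mk Nat.prime_two
  have h1 := dprod_card (abelian_Sylow_dprod (p := 2) (S := (P : Subgroup G)) (H := ⊤)
    ⟨le_top, P.isPGroup', by rw [Subgroup.relIndex_top_right]; exact P.not_dvd_index⟩ hab)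
  rw [top_inf_eq] at h1
  refine ⟨?_, h1⟩
  change Nat.card ((P : Subgroup G) ⊓ commutator G : Subgroup G) * _ = _ at h1
  have h2 := app4568_formula P he hM
  have h3 : (Nat.card ((P : Subgroup G) ⊓ Ce[No[(P : Subgroup G)]] : Subgroup G)).Coprime
      ((Ce[(P : Subgroup G)]).relIndex No[(P : Subgroup G)]) :=
    coprime_card_of_isPGroup P.isPGroup'.to_inf_left (app4568_odd P)
  have h4 : Nat.card ((P : Subgroup G) ⊓ commutator G : Subgroup G) ≠ 1 := fun h => by
    rw [h, one_mul] at h1
    have h5 := Subgroup.eq_of_le_of_card_ge inf_le_left h1.ge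
    exact he.ne_one (Subgroup.relIndex_eq_one.2
      (Subgroup.le_centralizer_iff.1 (inf_eq_left.1 h5)))
  have h5 : 0 < Nat.card ((P : Subgroup G) ⊓ commutator G : Subgroup G) := Nat.card_pos
  rw [← h1] at h2
  generalize Nat.card ((P : Subgroup G) ⊓ commutator G : Subgroup G) = q at *
  generalize Nat.card ((P : Subgroup G) ⊓ Ce[No[(P : Subgroup G)]] : Subgroup G) = f at *
  generalize (Ce[(P : Subgroup G)]).relIndex No[(P : Subgroup G)] = e at *
  obtain ⟨q, rfl⟩ : ∃ q', q = q' + 1 := ⟨q - 1, by omega⟩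
  have h6 : e ∣ f * q := (Nat.dvd_add_right (dvd_mul_left e (f * blockRank 2
    (principalBlock M G)))).1 ⟨Nat.card (principalBlock M G), by linarith⟩
  exact Nat.succ_le_succ (Nat.le_of_dvd (by omega) (h3.symm.dvd_of_dvd_mul_left h6))

theorem app4568_rank_free [FTthm.{u}] (hM : IsPModular 2 M)
    (hF : (P : Subgroup G) ⊓ Ce[No[(P : Subgroup G)]] = ⊥) :
    blockRank 2 (principalBlock M G) = (Ce[(P : Subgroup G)]).relIndex No[(P : Subgroup G)] := by
  have := Fact.mk Nat.prime_two
  have := Fintype.ofFinite G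
  have hfree : ∀ y ∈ (P : Subgroup G), y ≠ 1 → ∀ n ∈ No[(P : Subgroup G)], n * y = y * n →
      n ∈ Ce[(P : Subgroup G)] := fun y hy hy1 n hn h =>
    app4568_semifree P he (fun h' => hy1 (Subgroup.mem_bot.1 (hF.le ⟨hy, h'⟩))) hy hn h
  obtain ⟨h1, h2⟩ := app4568_le_card P he hM
  have h3 := app4568_formula P he hM
  rw [hF, Subgroup.card_bot] at h2 h3
  rw [mul_one] at h2
  rw [h2] at h1
  have hP1 : (P : Subgroup G) ≠ ⊥ := fun h => by
    rw [Subgroup.card_eq_one.2 h] at h1
    have := he.pos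
    omega
  rcases h1.lt_or_eq with h4 | h4
  · obtain ⟨e, S⟩ := hM.exists_starSetup_principal P
    have h5 := (S.blockRank_le_of_free (Subgroup.le_centralizer _) (fun t ht x hx hx1 h =>
      hfree x hx hx1 t (S.pairStab_principal ▸ ht) (mul_inv_eq_iff_eq_mul.1 h)) hP1).1
    rw [S.pairStab_principal] at h5
    exact le_antisymm h5 (app4568_le_rank P he hM (IsPSolvable.of_isSolvable 2
      (app4568_free hM he G P hab hfree dvd_rfl h4)))
  · have h5 := card_autInducedBy (P := (P : Subgroup G)) le_rfl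
    have : Fact (Nat.Prime _) := ⟨he⟩
    obtain ⟨x, hx⟩ := exists_prime_orderOf_dvd_card' (G := (P : Subgroup G)) 2
      (dvd_card_of_isPGroup_of_ne_bot P.isPGroup' hP1)
    have hx1 : x ≠ 1 := fun h => by rw [h, orderOf_one] at hx; omega
    have h6 := Cfsg.Agent.S4570.aut_lt hx1 (mul_self_eq_one_of_orderOf_two hx) (fun σ hσ h => by
      obtain ⟨n, hn, h'⟩ := mem_autInducedBy.1 hσ
      refine (mem_centralizer_iff_aut_eq_one h').1 (hfree x x.2 (fun h => hx1 (Subtype.ext h)) n hn
        (mul_inv_eq_iff_eq_mul.1 ?_))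
      rw [← h', h])
    have h7 := IsPModular.card_principalBlock_of_isCyclic_aut (fun y hy hy1 => le_antisymm
      (fun n hn => hfree y hy hy1 n hn.2 (Subgroup.mem_centralizer_singleton_iff.1 hn.1))
      (le_inf (Subgroup.centralizer_le (Set.singleton_subset_iff.2 hy))
        (Subgroup.centralizer_le_normalizer _))) hM
      (Cfsg.Agent.S4570.sq_of_card (P := P) (by rw [h5] at h6; omega)) (isCyclic_of_prime_card h5)
      (by rw [h5, h4])
    rw [h7, ← h4] at h3
    exact Nat.eq_of_mul_eq_mul_right he.pos (by linarith)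

omit he in
theorem app4568_quot {Z : Subgroup G} [Z.Normal] (hZP : Z ≤ P) (hZ : Z ≤ Subgroup.center G) :
    (Ce[(P : Subgroup G).map (QuotientGroup.mk' Z)]).relIndex
      No[(P : Subgroup G).map (QuotientGroup.mk' Z)] =
      (Ce[(P : Subgroup G)]).relIndex No[(P : Subgroup G)] := by
  have := Fact.mk Nat.prime_two
  have hPC : (P : Subgroup G) ≤ Ce[(P : Subgroup G)] := Subgroup.le_centralizer _
  have hCN : Ce[(P : Subgroup G)] ≤ No[(P : Subgroup G)] := Subgroup.centralizer_le_normalizer _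
  rw [normalizer_map_mk_sylow, ← Subgroup.relIndex_comap, ← Subgroup.inf_relIndex_right]
  congr 1
  refine le_antisymm ?_ (le_inf (fun c hc => ?_) hCN)
  · rintro g ⟨hg, hgN⟩
    rw [← pPart_mul_pRegPart 2 g]
    refine mul_mem (hPC ?_) ?_
    · exact (((isPGroup_zpowers_pPart g).inf_normalizer_sylow P).le
        ⟨Subgroup.mem_zpowers _, pPart_mem 2 hgN⟩).2
    · refine le_centralizer_of_commutator_le_of_coprime (K := Z) (A := Subgroup.zpowers (pRegPart 2 g))
        (coprime_card_of_isPGroup (P.isPGroup'.to_le hZP) (by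
          rw [Nat.card_zpowers]; exact not_dvd_orderOf_pRegPart g)) ?_
        (fun a _ z hz => (Subgroup.mem_center_iff.1 (hZ hz) a).symm) (Subgroup.mem_zpowers _)
      refine Subgroup.commutator_le.2 fun x hx a ha => ?_
      have h1 := (Subgroup.zpowers_le.2 (pRegPart_mem 2 hg)) ha _ ⟨x, hx, rfl⟩
      rw [← QuotientGroup.eq_one_iff, ← QuotientGroup.mk'_apply, map_commutatorElement,
        commutatorElement_eq_one_iff_mul_comm]
      exact h1
  · rintro _ ⟨x, hx, rfl⟩
    rw [← map_mul, ← map_mul, hc x hx]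

omit P hab he in
theorem app4568_rank [FTthm.{u}] (hM : IsPModular 2 M) {e : ℕ} (he : e.Prime) (G : Type u)
    [Group G] [Finite G] : ∀ P : Sylow 2 G, IsMulCommutative (P : Subgroup G) →
      (Ce[(P : Subgroup G)]).relIndex No[(P : Subgroup G)] = e →
      blockRank 2 (principalBlock M G) = e := by
  have := Fact.mk Nat.prime_two
  refine induction_on_card (P := fun G _ _ => ∀ P : Sylow 2 G, IsMulCommutative (P : Subgroup G) →
      (Ce[(P : Subgroup G)]).relIndex No[(P : Subgroup G)] = e →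
      blockRank 2 (principalBlock M G) = e) ?_ G
  intro G _ _ ih P hab hi
  by_cases hF : (P : Subgroup G) ⊓ Ce[No[(P : Subgroup G)]] = ⊥
  · exact (app4568_rank_free P (hi ▸ he) hM hF).trans hi
  obtain ⟨⟨z, hzP, hz⟩, hz1⟩ := Subgroup.ne_bot_iff_exists_ne_one.1 hF
  obtain ⟨f, S⟩ := hM.exists_starSetup_principal P
  have h1 := S.blockRank_below_of_fixed (Subgroup.le_centralizer _) (z := ⟨z, hzP⟩) fun t ht =>
    mul_inv_eq_iff_eq_mul.2 (hz t (S.pairStab_principal ▸ ht))
  rw [S.below_principal] at h1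
  rw [← h1]
  have hNC : No[(P : Subgroup G)] ≤ Subgroup.centralizer {z} := fun n hn =>
    Subgroup.mem_centralizer_singleton_iff.2 (hz n hn)
  have hle : (P : Subgroup G) ≤ Subgroup.centralizer {z} := Subgroup.le_normalizer.trans hNC
  change blockRank 2 (principalBlock M (Subgroup.centralizer {z})) = e
  let Z := Subgroup.zpowers (⟨z, hle hzP⟩ : Subgroup.centralizer ({z} : Set G))
  have hZ : Z ≤ Subgroup.center _ := Subgroup.zpowers_le.2 (Subgroup.mem_center_iff.2 fun g =>
    Subtype.ext (Subgroup.mem_centralizer_singleton_iff.1 g.2))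
  have : Z.Normal := ⟨fun n hn g => by
    rwa [Subgroup.mem_center_iff.1 (hZ hn) g, mul_inv_cancel_right]⟩
  have hZP : Z ≤ P.subtype hle := Subgroup.zpowers_le.2 hzP
  have : IsMulCommutative ((P.subtype hle : Sylow 2 _) : Subgroup (Subgroup.centralizer {z})) :=
    ⟨⟨fun a b => Subtype.ext (Subtype.ext (setLike_mul_comm (s := (P : Subgroup G)) a.2 b.2))⟩⟩
  rw [Cfsg.Agent.S4571.result 2 M hM Z ((P.subtype hle).isPGroup'.to_le hZP) (eq_top_iff.2
    (le_sup_of_le_right fun g _ x hx => (Subgroup.mem_center_iff.1 (hZ hx) g).symm))]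
  refine ih _ ((card_quotient_lt (N := Z) fun h => hz1 (Subtype.ext ?_)).trans_le
    (Subgroup.card_le_card_group _))
    ((P.subtype hle).mapSurjective (QuotientGroup.mk'_surjective Z)) ?_ ?_
  · have h2 := congrArg Subtype.val
      ((Subgroup.eq_bot_iff_forall Z).1 h _ (Subgroup.mem_zpowers _))
    exact h2
  · rw [Sylow.coe_mapSurjective]
    infer_instance
  · rw [Sylow.coe_mapSurjective, app4568_quot _ hZP hZ, Sylow.coe_subtype,
      centralizer_subgroupOf hle, ← Subgroup.subgroupOf_normalizer_eq hle,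
      Subgroup.relIndex_subgroupOf hNC, hi]

theorem app4568 [FTthm.{u}] (hM : IsPModular 2 M) :
    blockRank 2 (principalBlock M G) = (Ce[(P : Subgroup G)]).relIndex No[(P : Subgroup G)] ∧
      (¬ Group.IsSolvable G → Nat.card (principalBlock M G) = Nat.card (P : Subgroup G)) := by
  have h1 := app4568_rank hM he G P hab rfl
  refine ⟨h1, fun hns => ?_⟩
  obtain ⟨h2, h3⟩ := app4568_le_card P he hM
  have h4 := app4568_formula P he hM
  rw [le_antisymm (app4568_card_le P he hM hns) h2] at h3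
  rw [h1, ← h3] at h4
  rw [← h3]
  exact Nat.eq_of_mul_eq_mul_right he.pos (by linarith)

end Cfsg.FT
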