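import Cfsg.Agent.FT.App.SFTc
import Cfsg.Agent.FT.I.FTthm

/-!
# Solvable signalizer functor theorem (values of odd order, any prime `p`, rank at least 3)
-/

set_option autoImplicit false

namespace Cfsg.FT.SFT
open scoped Pointwise
open Subgroup

universe u

variable {G : Type u} [Group G] [Finite G] {p q s v : ℕ} [hp : Fact p.Prime] {θ : G → Subgroup G}
variable {A B F H K L M N P S U V X Y : Subgroup G} {a b c d : G}

theorem Cx.nomax (h : Cx p A θ) (hc : c ∈ A) (h1 : c ≠ 1) : ¬ Mx p A θ (θ c) := fun hM => by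
  obtain ⟨s, hs, hO⟩ := sol_core_ne_bot hM.1.sol (h.mx_ne hM)
  haveI := Fact.mk hs
  have hz := zpowers_le.2 hc
  have hOt := hM.1.core {s}
  have c1 : ∀ S, MxQ p A θ s S → S ≤ 𝐂[⟪c⟫] := fun S hS => by
    have h2 : core {s} (θ c) ≤ S := h.inv_le hOt (pcore_pgroup' s _)
      ((DD_le hc h1).trans (pcore_normal _ _).norm) hS
    refine centsC.1 (coprime_nil_faithful_cent_stab (hz.trans hS.1.1.norm) (h.cop1 hS.1.1 hc)
      (pgroup_nil hS.1.2) ?_)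
    rw [cent_cycle]
    exact (h.ov hM hOt hO (pcore_normal _ _).norm _ (hS.1.1.inf (norms_cent (normsI hS.1.1.norm
      (h.A_norm_cent1 hc)))) (inf_le_right.trans ((centS (le_inf h2 ((pcore_sub _ _).trans
        (h.cent c hc h1)))).trans (cent_sub _)))).trans (h.cent c hc h1)
  obtain ⟨K, hK, -, hK'⟩ := h.kk' {s}ᶜ ⟨c, hc, h1, fun hn =>
    hn.mem_of_pgroup (pcore_pgroup' s _) (pcore_sub _ _) hO rfl⟩
  have c2 : ∀ a ∈ A, a ≠ 1 → ⁅θ a, ⟪c⟫⁆ ≤ ⁅K, ⟪c⟫⁆ := fun a ha a1 => by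
    have ht := h.th ha a1
    obtain ⟨R, r1, r2⟩ := sol_coprime_Sylow_exists s (.inl ht.sol) ht.norm (h.copA ht le_rfl)
    obtain ⟨S, r3, r4⟩ := exists_mxq (ht.sub r1.le r2) r1.pgroup
    rw [← coprime_commGid (hz.trans ht.norm) (h.cop1 ht hc)]
    exact commSg _ ((coprime_comm_pcore (π := {s}ᶜ) (hz.trans ht.norm) (h.cop1 ht hc) ht.sol
      (by rw [compl_compl]; exact r1.hall) (r3.trans (c1 S r4))).trans (hK' _ (ht.core _)
        (pcore_pgroup _ _) ((DD_le ha a1).trans (pcore_normal _ _).norm)))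
  have hJ : Th p A θ ⁅K, ⟪c⟫⁆ :=
    hK.sub (commg_subl.2 (hz.trans hK.norm)) (normsR hK.norm (h.A_norm_cyc hc))
  have hJJ := coprime_commGid (hz.trans hK.norm) (h.cop1 hK hc)
  have c3 : θ c ≤ 𝐍[⁅K, ⟪c⟫⁆] := by
    by_contra hn
    obtain ⟨B, hB, hcB, hcy, E, hE, -, hE'⟩ := h.line hc h1 hn
    have hN : ⨆ b ∈ nz B, ⁅θ b, ⟪c⟫⁆ ≤ ⁅K, ⟪c⟫⁆ := iSup₂_le fun b hb => c2 b (hB hb.1) hb.2
    refine hE (hN.antisymm (gen_comm (abelianS hB h.ab.1) hcy hcB hJ.sol (hB.trans hJ.norm)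
      (h.copA hJ hB) hJJ hN ?_ fun b hb b1 => ?_) ▸ ?_)
    · exact norms_iSup (fun b => norms_iSup fun _ => commg_normr _ _) (mem_zpowers c)
    · exact (commSg _ (hJ.le b (hB hb) b1)).trans
        (le_biSup (fun b => ⁅θ b, ⟪c⟫⁆) (show b ∈ nz B from ⟨hb, b1⟩))
    · exact norms_iSup fun b => norms_iSup fun hb => (hE' b hb.1 hb.2).trans (commg_norml _ _)
  have c4 : ⁅K, ⟪c⟫⁆ = ⊥ := by
    rw [← hJJ, commG1P, cent_cycle]
    exact (le_sup_left.trans (hM.2 (h.sup hJ hM.1 c3) le_sup_right)).trans (h.cent c hc h1)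
  refine h.nc ⟨_, hM.1, fun a ha a1 => le_trans (le_inf le_rfl ?_) (h.bal a ha a1 c hc h1)⟩
  rw [← cent_cycle, ← commG1P, eq_bot_iff, ← c4]
  exact c2 a ha a1

theorem Cx.fit_not_le (h : Cx p A θ) (hc : c ∈ A) (h1 : c ≠ 1) (hM : Mx p A θ M) (hl : θ c ≤ M) :
    ¬ fit M ≤ 𝐂₁[c] := fun hn => by
  have hz := zpowers_le.2 hc
  have h2 : M ≤ 𝐂[⟪c⟫] := centsC.1 ((le_inf le_rfl (centsC.1 (cent_cycle c ▸ hn))).trans
    (coprime_cent_Fitting (hz.trans hM.1.norm) (h.cop1 hM.1 hc) hM.1.sol))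
  exact h.nomax hc h1 (hl.antisymm ((le_inf le_rfl (cent_cycle c ▸ h2)).trans (hM.1.le c hc h1)) ▸ hM)

omit hp in
theorem exists_core_not_le (h : ¬ fit M ≤ L) : ∃ s, s.Prime ∧ ¬ core {s} M ≤ L := by
  by_contra hn
  push Not at hn
  exact h (Fitting_le_of_forall hn)

/-- `Y = [Y, a] ≠ 1` is a `θ(a) A`-invariant `s`-group -/
structure Spur (p : ℕ) (A : Subgroup G) (θ : G → Subgroup G) (a : G) (s : ℕ) (Y : Subgroup G) :
    Prop where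
  mem : a ∈ A
  ne : a ≠ 1
  th : Th p A θ Y
  pg : IsPGroup s Y
  nb : Y ≠ ⊥
  comm : ⁅Y, ⟪a⟫⁆ = Y
  norm : θ a ≤ 𝐍[Y]

theorem Sig.spur (h : Sig p A θ) (ha : a ∈ A) (h1 : a ≠ 1) (hP : Th p A θ P) (hs : IsPGroup s P)
    (hn : θ a ≤ 𝐍[P]) (h0 : ¬ P ≤ 𝐂₁[a]) : Spur p A θ a s ⁅P, ⟪a⟫⁆ ∧ ⁅P, ⟪a⟫⁆ ≤ P := by
  have hz := (zpowers_le.2 ha).trans hP.norm
  have hl := commg_subl.2 hz
  exact ⟨⟨ha, h1, hP.sub hl (normsR hP.norm (h.A_norm_cyc ha)), hs.to_le hl,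
    fun e => h0 (cent_cycle a ▸ commG1P.1 e), coprime_commGid hz (h.cop1 hP ha),
    normsR hn (norms_cycle (h.cent a ha h1))⟩, hl⟩

theorem Sig.spur_le [Fact s.Prime] (h : Sig p A θ) (hY : Spur p A θ a s Y) (hL : Th p A θ L)
    (hl : Y ≤ L) : Y ≤ core {s} L :=
  lemF (h.pow hY.mem) hL.sol (hL.norm hY.mem) hL.cop hl hY.pg hY.comm
    ((hL.le a hY.mem hY.ne).trans hY.norm)

theorem Cx.exists_spur (h : Cx p A θ) (ha : a ∈ A) (h1 : a ≠ 1) :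
    ∃ s, s.Prime ∧ ∃ Y, Spur p A θ a s Y := by
  obtain ⟨M, hl, hM⟩ := exists_mx (h.th ha h1)
  obtain ⟨s, hs, hn⟩ := exists_core_not_le (h.fit_not_le ha h1 hM hl)
  haveI := Fact.mk hs
  exact ⟨s, hs, _, (h.spur ha h1 (hM.1.core _) (pcore_pgroup' s M)
    (hl.trans (pcore_normal _ _).norm) hn).1⟩

section three
variable {a' : G} {Y' M' : Subgroup G}

theorem Cx.spur_arr [Fact v.Prime] (h : Cx p A θ) (hY' : Spur p A θ a' v Y') (hM : Mx p A θ M)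
    (ho' : Ov p A θ Y' M') (hl : Y' ≤ M) : Arr M M' :=
  arr_of_ov hM.1 ((h.spur_le hY' hM.1 hl).trans (pcore_sub_Fitting v M)) hY'.th.norm ho'

theorem Cx.spur_same [Fact s.Prime] (h : Cx p A θ)
    (h3 : ∀ q r : ℕ, ∃ a ∈ A, a ≠ 1 ∧ ¬ PiSub {q, r} (θ a))
    (hY : Spur p A θ a s Y) (hY' : Spur p A θ a' s Y') (hM : Mx p A θ M) (ho : Ov p A θ Y M)
    (hM' : Mx p A θ M') (ho' : Ov p A θ Y' M') (h0 : core {s}ᶜ M ≠ ⊥) :
    Arr M M' ∧ core {s}ᶜ M' ≠ ⊥ := by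
  obtain ⟨w, hw, hne, hO⟩ := mixed_of hM.1.sol h0
  haveI := Fact.mk hw
  obtain ⟨K, hK, -, hK'⟩ := h.kk' _ (h3 s w)
  have hYM := ho _ hY.th (normG Y)
  have hD := (DD_le hY.mem hY.ne).trans (ho _ (h.th hY.mem hY.ne) hY.norm)
  have hOt := hM.1.core {w}
  have f : ∀ {a Y}, Spur p A θ a s Y → Y ≤ core {s} K := fun g => h.spur_le g hK (hK' _ g.th
    (piSub_of_pgroup g.pg (by simp)) ((DD_le g.mem g.ne).trans g.norm))
  have hOK : core {w} M ≤ 𝐍[core {s} K] := (hK' _ hOt (piSub_of_pgroup (pcore_pgroup' w M) (by simp))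
    (hD.trans (pcore_normal _ _).norm)).trans (pcore_normal _ _).norm
  have hc := coprime_pgroups (pcore_pgroup' s K) (pcore_pgroup' w M) hne.symm
  have h1 : Y ≤ 𝐂[core {w} M] := (h.spur_le hY hM.1 hYM).trans
    (pcore_cents (by rintro _ rfl e; exact hne e.symm) M)
  have h2 : core {s} K ⊓ 𝐂[Y] ≤ 𝐂[core {w} M] := commG1P.1 (eq_bot_iff.2 ((commg_subI
    (le_inf inf_le_left ((ho _ ((hK.core _).inf (norms_cent hY.th.norm))
      (inf_le_right.trans (cent_sub Y))).trans (pcore_normal _ _).norm))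
    (le_inf le_rfl hOK)).trans (coprime_TIg hc).le))
  have h4 : core {w} M ≤ 𝐂[Y'] := centsS (f hY') (coprime_nil_faithful_cent_stab hOK hc
    (pgroup_nil (pcore_pgroup' s K)) ((inf_le_inf_left _ (centS (le_inf (f hY) h1))).trans h2))
  have h5 := h.spur_arr hY' hM ho' (h.ov hM hOt hO (pcore_normal _ _).norm _ hY'.th
    (cents_norm (centsC.1 h4)))
  refine ⟨h5, fun e => hO (eq_bot_iff.2 (le_trans (le_inf (sub_pcore (by simpa using hne.symm) M)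
    (ho' _ hOt (cents_norm h4))) ((h.bender1 hM hM'.1 h5 fun e' => hY.nb (eq_bot_iff.2
      ((h.spur_le hY hM.1 hYM).trans e'.le))).trans e.le)))⟩

theorem Cx.spur_eq [Fact s.Prime] [Fact v.Prime] (h : Cx p A θ)
    (h3 : ∀ q r : ℕ, ∃ a ∈ A, a ≠ 1 ∧ ¬ PiSub {q, r} (θ a))
    (hY : Spur p A θ a s Y) (hY' : Spur p A θ a' v Y') (hM : Mx p A θ M) (ho : Ov p A θ Y M)
    (hM' : Mx p A θ M') (ho' : Ov p A θ Y' M') : M = M' := by
  have ne : ∀ {a s Y M} [Fact s.Prime], Spur p A θ a s Y → Mx p A θ M → Y ≤ M → core {s} M ≠ ⊥ :=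
    fun g hM hl e => g.nb (eq_bot_iff.2 ((h.spur_le g hM.1 hl).trans e.le))
  have hs := ne hY hM (ho _ hY.th (normG Y))
  by_cases e : s = v
  · subst e
    have mix : ∀ {a a' Y Y' M M'}, Spur p A θ a s Y → Spur p A θ a' s Y' → Mx p A θ M →
        Ov p A θ Y M → Mx p A θ M' → Ov p A θ Y' M' → core {s}ᶜ M ≠ ⊥ → M = M' :=
      fun hY hY' hM ho hM' ho' h0 => by
        obtain ⟨h1, h2⟩ := h.spur_same h3 hY hY' hM ho hM' ho' h0
        obtain ⟨w, hw, hne, hO⟩ := mixed_of hM.1.sol h0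
        haveI := Fact.mk hw
        exact h.bender4 hM hM' h1 (h.spur_same h3 hY' hY hM' ho' hM ho h2).1 hO
          (ne hY hM (ho _ hY.th (normG _))) hne
    by_cases h0 : core {s}ᶜ M = ⊥
    · by_cases h0' : core {s}ᶜ M' = ⊥
      · exact h.zj hM ((DD_le hY.mem hY.ne).trans (ho _ (h.th hY.mem hY.ne) hY.norm)) h0 hM'
          ((DD_le hY'.mem hY'.ne).trans (ho' _ (h.th hY'.mem hY'.ne) hY'.norm)) h0'
      · exact (mix hY' hY hM' ho' hM ho h0').symm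
    · exact mix hY hY' hM ho hM' ho' h0
  obtain ⟨K, hK, -, hK'⟩ := h.kk' _ (h3 s v)
  have h1 : Y ≤ 𝐂[Y'] := centSS (h.spur_le hY' hK (hK' _ hY'.th (piSub_of_pgroup hY'.pg (by simp))
    ((DD_le hY'.mem hY'.ne).trans hY'.norm))) (h.spur_le hY hK (hK' _ hY.th
      (piSub_of_pgroup hY.pg (by simp)) ((DD_le hY.mem hY.ne).trans hY.norm)))
    (pcore_cents (by rintro _ rfl e'; exact e e') K)
  have h2 := ho _ hY'.th (cents_norm (centsC.1 h1))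
  exact h.bender4 hM hM' (h.spur_arr hY' hM ho' h2)
    (h.spur_arr hY hM' ho (ho' _ hY.th (cents_norm h1))) hs (ne hY' hM h2) e

theorem Cx.three (h : Cx p A θ) (h3 : ∀ q r : ℕ, ∃ a ∈ A, a ≠ 1 ∧ ¬ PiSub {q, r} (θ a)) : False := by
  obtain ⟨a, ha, h1, -⟩ := h3 0 0
  obtain ⟨s, hs, Y, hY⟩ := h.exists_spur ha h1
  obtain ⟨M, hM, ho⟩ := h.exists_ov hY.th hY.nb
  refine h.nc ⟨M, hM.1, fun b hb b1 => ?_⟩
  obtain ⟨v, hv, Y', hY'⟩ := h.exists_spur hb b1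
  obtain ⟨M', hM', ho'⟩ := h.exists_ov hY'.th hY'.nb
  haveI := Fact.mk hs
  haveI := Fact.mk hv
  rw [h.spur_eq h3 hY hY' hM ho hM' ho']
  exact ho' _ (h.th hb b1) hY'.norm

end three

section two
variable {r : ℕ}

theorem Sig.pi_of [Fact s.Prime] (h : Sig p A θ) (h2 : ∀ a ∈ A, a ≠ 1 → PiSub {q, r} (θ a))
    (hM : Th p A θ M) (h0 : core {s} M ≠ ⊥) : s = q ∨ s = r := by
  obtain ⟨a, ha, h1, hn⟩ := h.exists_ne_bot (hM.core _) h0
  exact (h2 a ha h1).mem_of_pgroup ((pcore_pgroup' s M).to_le inf_le_left)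
    ((hM.core _).le a ha h1) hn

theorem Cx.uniq [Fact s.Prime] [Fact v.Prime] (h : Cx p A θ)
    (h2 : ∀ a ∈ A, a ≠ 1 → PiSub {q, r} (θ a)) (hM : Mx p A θ M) (hs : core {s} M ≠ ⊥)
    (hv : core {v} M ≠ ⊥) (hne : s ≠ v) (hU : U ≤ fit M) (h0 : U ≠ ⊥) (hn : A ≤ 𝐍[U]) :
    Ov p A θ U M := by
  obtain ⟨H, hH, ho⟩ := h.exists_ov (hM.1.fit.sub hU hn) h0
  have ha := arr_of_ov hM.1 hU hn ho
  have h1 := h.bender_fit hM hH.1 ha hs hv hne fun u hu hu' => by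
    haveI := Fact.mk hu
    have e1 := h.pi_of h2 hM.1 hs
    have e2 := h.pi_of h2 hM.1 hv
    have e3 := h.pi_of h2 hH.1 hu'
    have : u = s ∨ u = v := by omega
    rcases this with rfl | rfl <;> assumption
  rwa [h.bender4 hM hH ha ⟨_, le_rfl, h1, inf_le_left⟩ hs hv hne]

theorem Cx.not_mixed [Fact s.Prime] [Fact v.Prime] (h : Cx p A θ)
    (h2 : ∀ a ∈ A, a ≠ 1 → PiSub {q, r} (θ a)) (hM : Mx p A θ M) (hs : core {s} M ≠ ⊥)
    (hv : core {v} M ≠ ⊥) (hne : s ≠ v) (ha : a ∈ A) (h1 : a ≠ 1) : ¬ θ a ≤ M := fun hl => by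
  obtain ⟨t, ht, hn⟩ := exists_core_not_le (h.fit_not_le ha h1 hM hl)
  haveI := Fact.mk ht
  have hT := hM.1.core {t}
  have hza := h.A_norm_cyc ha
  have hz := zpowers_le.2 ha
  obtain ⟨B, hB, hbig, hB'⟩ := h.exists_big hT hn
  refine h.nc (h.compl_of_line hM.1 hB (h.big_ncyc hB hbig) fun b hb b1 => ?_)
  have hbA := hB hb
  obtain ⟨H, hbH, hH⟩ := exists_mx (h.th hbA b1)
  have hE := hT.inf (h.A_norm_cent1 hbA)
  have hU1 : ⁅core {t} M ⊓ 𝐂₁[b], ⟪a⟫⁆ ≤ core {t} M ⊓ 𝐂₁[b] := commg_subl.2 (hz.trans hE.norm)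
  have hU0 : ⁅core {t} M ⊓ 𝐂₁[b], ⟪a⟫⁆ ≠ ⊥ := fun e =>
    hB' ((inf_le_inf_left _ (cent_le_cent1 hb)).trans (cent_cycle a ▸ commG1P.1 e))
  have hTH := hT.inf hH.1.norm
  have hTH' := commg_subl.2 (hz.trans hTH.norm)
  have hU2 : ⁅core {t} M ⊓ 𝐂₁[b], ⟪a⟫⁆ ≤ fit H :=
    (commSg _ (le_inf inf_le_left ((hT.le b hbA b1).trans hbH))).trans ((lemF (h.pow ha) hH.1.sol
      (hH.1.norm ha) hH.1.cop (hTH'.trans inf_le_right)
      ((pcore_pgroup' t M).to_le (hTH'.trans inf_le_left))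
      (coprime_commGid (hz.trans hTH.norm) (h.cop1 hTH ha)) (normsR (normsI
        (((hH.1.le a ha h1).trans hl).trans (pcore_normal _ _).norm) (normsG inf_le_left))
        (norms_cycle inf_le_right))).trans (pcore_sub_Fitting t H))
  have hV := hH.1.fit.inf (norms_cent (normsI hH.1.fit.norm (h.A_norm_cent1 hbA)))
  have hVM := h.uniq h2 hM hs hv hne ((hU1.trans inf_le_left).trans (pcore_sub_Fitting t M)) hU0
    (normsR hE.norm hza) _ hV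
    (inf_le_right.trans ((centS (le_inf hU2 (hU1.trans inf_le_right))).trans (cent_sub _)))
  have hnF := hbH.trans (Fitting_normal H).norm
  have hV0 : ¬ fit (fit H ⊓ 𝐂[fit H ⊓ 𝐂₁[b]]) ≤ 𝐂₁[b] := fun e => by
    rw [nilpotent_Fitting (nilpotentS inf_le_left (Fitting_nil H)), ← cent_cycle] at e
    exact h.fit_not_le hbA b1 hH hbH (cent_cycle b ▸ centsC.1 (coprime_nil_faithful_cent_stab
      ((zpowers_le.2 hbA).trans hH.1.fit.norm) (h.cop1 hH.1.fit hbA) (Fitting_nil H) e))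
  obtain ⟨w, hw, hw'⟩ := exists_core_not_le hV0
  haveI := Fact.mk hw
  obtain ⟨hY, hY'⟩ := h.spur hbA b1 (hV.core _) (pcore_pgroup' w _) (norms_pcore _
    (normsI hnF (norms_cent (normsI hnF (normsG (h.cent b hbA b1)))))) hw'
  exact h.uniq h2 hM hs hv hne ((h.spur_le hY hM.1 ((hY'.trans (pcore_sub _ _)).trans hVM)).trans
    (pcore_sub_Fitting w M)) hY.nb hY.th.norm _ (h.th hbA b1) hY.norm

theorem Cx.exists_char (h : Cx p A θ) (q : ℕ) : ∃ M₁, Th p A θ M₁ ∧ ∀ M, Mx p A θ M → DD A θ ≤ M →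
    q.Prime → core {q}ᶜ M = ⊥ → M ≤ M₁ := by
  by_cases h0 : ∃ M, Mx p A θ M ∧ DD A θ ≤ M ∧ core {q}ᶜ M = ⊥
  · obtain ⟨N, h1, h2, h3⟩ := h0
    exact ⟨N, h1.1, fun M g1 g2 hq g3 => haveI := Fact.mk hq; (h.zj g1 g2 g3 h1 h2 h3).le⟩
  · exact ⟨⊥, th_bot, fun M g1 g2 _ g3 => absurd ⟨M, g1, g2, g3⟩ h0⟩

theorem Cx.two (h : Cx p A θ) (h2 : ∀ a ∈ A, a ≠ 1 → PiSub {q, r} (θ a)) : False := by
  obtain ⟨M₁, a1, a2⟩ := h.exists_char q
  obtain ⟨M₂, b1, b2⟩ := h.exists_char r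
  refine h.nc (h.compl_of_two a1 b1 fun a ha h1 => ?_)
  obtain ⟨M, hl, hM⟩ := exists_mx (h.th ha h1)
  obtain ⟨s, hs, hO⟩ := sol_core_ne_bot hM.1.sol (h.mx_ne hM)
  haveI := Fact.mk hs
  have h0 : core {s}ᶜ M = ⊥ := by
    by_contra hn
    obtain ⟨w, hw, hne, hO'⟩ := mixed_of hM.1.sol hn
    haveI := Fact.mk hw
    exact h.not_mixed h2 hM hO' hO hne ha h1 hl
  have hD := (DD_le ha h1).trans hl
  rcases h.pi_of h2 hM.1 hO with rfl | rfl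
  · exact .inl (hl.trans (a2 M hM hD hs h0))
  · exact .inr (hl.trans (b2 M hM hD hs h0))

end two

theorem Cx.false (h : Cx p A θ) : False := by
  by_cases h3 : ∀ q r : ℕ, ∃ a ∈ A, a ≠ 1 ∧ ¬ PiSub {q, r} (θ a)
  · exact h.three h3
  push Not at h3
  obtain ⟨q, r, h2⟩ := h3
  exact h.two h2

theorem compl_aux (n : ℕ) : ∀ (G : Type u) [Group G] [Finite G] (A : Subgroup G)
    (θ : G → Subgroup G), Sig p A θ → meas A θ = n → Compl p A θ := by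
  induction n using Nat.strong_induction_on with
  | _ n ih =>
  intro G _ _ A θ h e
  subst e
  by_contra hn
  exact Cx.false ⟨h, fun X => h.lc fun G' _ _ A' θ' h' hl => ih _ hl G' A' θ' h' rfl,
    h.kk fun θ' h' hl => ih _ hl G A θ' h' rfl, hn⟩

/-- the solvable signalizer functor theorem -/
theorem Sig.compl (h : Sig p A θ) : Compl p A θ := compl_aux _ G A θ h rfl

theorem Sig.th_iSup (h : Sig p A θ) : Th p A θ (⨆ a ∈ A, ⨆ _ : a ≠ 1, θ a) := by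
  obtain ⟨W, h1, h2⟩ := h.compl
  exact h1.sub (iSup₂_le fun a ha => iSup_le (h2 a ha))
    (norms_iSup fun a => norms_iSup fun ha => norms_iSup (h.norm a ha))

end Cfsg.FT.SFT

namespace Cfsg.FT
open Subgroup

universe u

/-- The solvable signalizer functor theorem for values of odd order. -/
theorem sft [FTthm.{u}] {G : Type u} [Group G] [Finite G] {p : ℕ} [Fact p.Prime] (V : Subgroup G)
    (hV : IsMulCommutative V) (hp : ∀ v ∈ V, v ^ p = 1) (hrk : p ^ 3 ≤ Nat.card V)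
    (θ : G → Subgroup G) (h1 : ∀ a ∈ V, a ≠ 1 → θ a ≤ centralizer {a})
    (h2 : ∀ a ∈ V, a ≠ 1 → V ≤ normalizer (θ a : Set G))
    (h3 : ∀ a ∈ V, a ≠ 1 → (Nat.card (θ a)).Coprime (2 * p))
    (h4 : ∀ a ∈ V, a ≠ 1 → ∀ b ∈ V, b ≠ 1 → θ a ⊓ centralizer {b} ≤ θ b) :
    (Nat.card ↥(⨆ a ∈ V, ⨆ _ : a ≠ 1, θ a)).Coprime (2 * p) ∧
      ∀ a ∈ V, a ≠ 1 → (⨆ a ∈ V, ⨆ _ : a ≠ 1, θ a) ⊓ centralizer {a} = θ a := by
  have h : SFT.Sig p V θ :=
    ⟨⟨hV, hp⟩, hrk, h1, h2, h3, fun a ha e => FTthm.out _ (SFT.odd_of_cop (h3 a ha e)), h4⟩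
  exact ⟨h.th_iSup.cop, fun a ha e => (h.th_iSup.le a ha e).antisymm (le_inf
    (le_iSup₂_of_le a ha (le_iSup (fun _ : a ≠ 1 => θ a) e)) (h1 a ha e))⟩

end Cfsg.FT
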