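import Cfsg.Agent.FT.P.BG3a
import Cfsg.Agent.FT.P.BG6b
import Cfsg.Agent.FT.Base.BG1

/-!
# Solvable signalizer functor theorem (odd order values), part a: general lemmas
-/

set_option autoImplicit false

namespace Cfsg.FT.SFT
open scoped Pointwise
open Subgroup

universe u

variable {G : Type u} [Group G] [Finite G] {p : ℕ} [hp : Fact p.Prime]
variable {A B F H K L M N V X Y : Subgroup G} {a b c : G}

theorem cop_cyc (ha : a ^ p = 1) (h : ¬ p ∣ Nat.card X) : (Nat.card X).Coprime (Nat.card ⟪a⟫) :=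
  (coprime_pgroup (cycle_abelem ha).isPGroup h).symm

omit [Finite G] in
theorem not_dvd_of_cop {n : ℕ} (h : n.Coprime (2 * p)) : ¬ p ∣ n := fun d =>
  hp.out.one_lt.ne' (Nat.eq_one_of_self_dvd_coprime_aux d h)
  where Nat.eq_one_of_self_dvd_coprime_aux {n : ℕ} (d : p ∣ n) (h : n.Coprime (2 * p)) : p = 1 :=
    Nat.eq_one_of_dvd_coprimes h d (Dvd.intro_left 2 rfl)

omit hp in
theorem odd_of_cop {n : ℕ} (h : n.Coprime (2 * p)) : Odd n :=
  Nat.coprime_two_right.1 (h.of_dvd_right (Dvd.intro p rfl))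

/-- fixed-point-free element of prime order on an abelian group -/
theorem fpf_cent (ha : a ^ p = 1) (hM : IsMulCommutative M) (hY : Y ≤ 𝐍[M]) (haM : a ∈ 𝐍[M])
    (haY : a ∈ 𝐍[Y]) (hc : (Nat.card M).Coprime (Nat.card Y)) (hpM : ¬ p ∣ Nat.card M)
    (hcY : (Nat.card Y).Coprime (2 * p)) (h0 : M ⊓ 𝐂₁[a] = ⊥) : ⁅Y, ⟪a⟫⁆ ≤ 𝐂[M] := by
  by_cases h1 : a = 1
  · subst h1; simp
  have ho : orderOf a = p := orderOf_eq_prime ha h1
  by_cases h2 : p = 2
  · subst h2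
    have ai : a⁻¹ = a := by rw [inv_eq_iff_mul_eq_one, ← sq, ha]
    have aa : a * a = 1 := by rw [← sq, ha]
    have inv : ∀ m ∈ M, a * m * a⁻¹ = m⁻¹ := fun m hm => by
      have hm' := (memJ_norm haM).2 hm
      have : m * (a * m * a⁻¹) ∈ M ⊓ 𝐂₁[a] := ⟨mul_mem hm hm', mem_cent1.2 (by
        conv_rhs => rw [comm_of_abelian hM hm hm']
        rw [ai]
        calc m * (a * m * a) * a = m * a * m * (a * a) := by group
          _ = (a * a) * m * a * m := by rw [aa]; group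
          _ = _ := by group)⟩
      rw [h0, mem_bot] at this
      exact (eq_inv_of_mul_eq_one_right this)
    refine commg_le_iff.2 fun y hy z hz => mem_cent.2 fun m hm => ?_
    have hz' : z = 1 ∨ z = a := by
      obtain ⟨k, rfl⟩ := mem_zpowers_iff.1 hz
      rcases Int.even_or_odd' k with ⟨j, rfl | rfl⟩
      · left; rw [zpow_mul, zpow_ofNat, ha, one_zpow]
      · right; rw [zpow_add, zpow_mul, zpow_ofNat, ha, one_zpow, one_mul, zpow_one]
    rcases hz' with rfl | rfl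
    · simp
    · have e1 := inv _ ((memJ_norm' (hY hy)).2 hm)
      have e2 := inv _ (inv_mem hm)
      rw [inv_inv] at e2
      calc m * (y * z * y⁻¹ * z⁻¹) = y * z * (z * (y⁻¹ * m * y) * z⁻¹) * z * z * y⁻¹ * z⁻¹ := by
            rw [ai]
            calc m * (y * z * y⁻¹ * z) = y * (z * z) * (y⁻¹ * m * y) * (z * z) * z * y⁻¹ * z := by
                  rw [aa]; group
              _ = _ := by group
        _ = y * z * y⁻¹ * z⁻¹ * (z * m⁻¹ * z⁻¹) * (z * y * (z * z) * y⁻¹ * z⁻¹) := by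
            rw [e1]; group
        _ = _ := by rw [e2, aa]; group
  have hpY := not_dvd_of_cop hcY
  have hz : ⟪a⟫ ≤ 𝐍[Y] := zpowers_le.2 haY
  have hYa := cop_cyc ha hpY
  have hs := sdprodEY hz (coprime_TIg hYa)
  have hcard : Nat.card ↥(Y ⊔ ⟪a⟫) = Nat.card Y * p := by rw [← sdprod_card hs, Nat.card_zpowers, ho]
  rw [commGC]
  refine bg3_sol_34 hs ?_ (by rw [Nat.card_zpowers, ho]; exact hp.out) hYa
    (sup_le hY (zpowers_le.2 haM)) ?_ (abelian_sol hM) (by rwa [cent_cycle])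
  · rw [hcard]; exact (odd_of_cop hcY).mul (hp.out.odd_of_ne_two h2)
  · rw [hcard]; exact Nat.Coprime.mul_right hc ((Nat.Prime.coprime_iff_not_dvd hp.out).2 hpM).symm

theorem lemF0 (ha : a ^ p = 1) (hs : Group.IsSolvable F) (hY : Y ≤ 𝐍[F]) (haF : a ∈ 𝐍[F])
    (haY : a ∈ 𝐍[Y]) (hc : (Nat.card F).Coprime (Nat.card Y)) (hpF : ¬ p ∣ Nat.card F)
    (hcY : (Nat.card Y).Coprime (2 * p)) (e : ⁅Y, ⟪a⟫⁆ = Y) (h0 : F ⊓ 𝐂₁[a] ≤ 𝐂[Y]) :
    Y ≤ 𝐂[F] := by
  set V := ⁅F, Y⁆ with hV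
  have hVF : V ≤ F := commg_subl.2 hY
  have hVV : ⁅V, Y⁆ = V := coprime_commGid hY hc
  have hYV : Y ≤ 𝐍[V] := commg_normr F Y
  have haV : ⟪a⟫ ≤ 𝐍[V] := normsR (zpowers_le.2 haF) (zpowers_le.2 haY)
  have nV : V ≤ 𝐍[⁅V, V⁆] := der_norm V
  have nY : Y ≤ 𝐍[⁅V, V⁆] := normsR hYV hYV
  have na : ⟪a⟫ ≤ 𝐍[⁅V, V⁆] := normsR haV haV
  have na' := na (mem_zpowers a)
  have hcV := coprimeSg hVF hc
  have hpV : ¬ p ∣ Nat.card V := fun d => hpF (d.trans (card_dvd_of_le hVF))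
  have key : Y ⁄ ⁅V, V⁆ ≤ 𝐂[V ⁄ ⁅V, V⁆] := by
    have h1 := fpf_cent (p := p) (a := coset ⁅V, V⁆ a) (by rw [← coset_pow na', ha, coset_one])
      (der_abelian V) (quotient_norms _ hYV) (quotient_norm _ _ (mem_quotient _ (haV (mem_zpowers a))))
      (quotient_norm _ _ (mem_quotient _ haY)) (coprime_quo2 _ hcV)
      (fun d => hpV (d.trans (dvdn_quotient _ _))) (coprime_quo _ hcY) ?_
    · rwa [← quotient_cycle na', ← quotientR nY na, e] at h1
    rw [← coprime_quotient_cent1 (.inl (der_sub V)) na'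
      (by rw [← Nat.card_zpowers]; exact coprimeSg (der_sub V) (cop_cyc ha hpV)), eq_bot_iff,
      ← coprime_abel_cent_TI (quotient_norms _ hYV) (coprime_quo2 _ hcV) (der_abelian V),
      ← quotientR nV nY, hVV]
    exact le_inf (quotientS _ inf_le_left)
      (quotient_cents _ ((inf_le_inf_right _ hVF).trans h0))
  have h2 := (quotient_cents2 nY nV).1 key
  rw [commGC, hVV] at h2
  by_contra hn
  exact (sol_der1_proper (solvableS hVF hs) fun e => hn (commG1P'.1 e)).not_ge h2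

theorem lemF1 {s : ℕ} [Fact s.Prime] (ha : a ^ p = 1) (hs : Group.IsSolvable L) (haL : a ∈ 𝐍[L])
    (hc : (Nat.card L).Coprime (2 * p)) (hY : Y ≤ L) (hYs : IsPGroup s Y) (e : ⁅Y, ⟪a⟫⁆ = Y)
    (hn : L ⊓ 𝐂₁[a] ≤ 𝐍[Y]) (h0 : core {s} L = ⊥) : Y = ⊥ := by
  have hF : fit L ≤ core {s}ᶜ L := by simpa [h0] using Fitting_le_sup s L
  have hc' : (Nat.card (core {s}ᶜ L)).Coprime (Nat.card Y) :=
    (coprime_pgroup hYs (p'core_not_dvd s L)).symm
  have hYF := hY.trans (pcore_normal {s}ᶜ L).norm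
  have h1 : Y ≤ 𝐂[core {s}ᶜ L] := lemF0 ha (solvableS (pcore_sub _ _) hs) hYF
    (norms_pcore _ (zpowers_le.2 haL) (mem_zpowers a))
    (commg_subl.1 e.le (mem_zpowers a)) hc'
    (fun d => not_dvd_of_cop hc (d.trans (card_dvd_of_le (pcore_sub _ _)))) (coprimeSg hY hc) e
    (commG1P.1 (eq_bot_iff.2 ((commg_subI (A := core {s}ᶜ L) (B := Y)
      (le_inf inf_le_left ((inf_le_inf_right _ (pcore_sub _ _)).trans hn))
      (le_inf le_rfl hYF)).trans (coprime_TIg hc').le)))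
  exact eq_bot_iff.2 ((le_inf ((le_inf hY (centsS hF h1)).trans
    ((cent_sub_Fitting hs).trans hF)) le_rfl).trans (coprime_TIg hc').le)

/-- `Y = [Y, a]` normalized by `C_L(a)` lies in `O_s(L)` -/
theorem lemF {s : ℕ} [Fact s.Prime] (ha : a ^ p = 1) (hs : Group.IsSolvable L) (haL : a ∈ 𝐍[L])
    (hc : (Nat.card L).Coprime (2 * p)) (hY : Y ≤ L) (hYs : IsPGroup s Y) (e : ⁅Y, ⟪a⟫⁆ = Y)
    (hn : L ⊓ 𝐂₁[a] ≤ 𝐍[Y]) : Y ≤ core {s} L := by
  have nL := (pcore_normal {s} L).norm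
  have na := norms_pcore {s} (zpowers_le.2 haL)
  have na' := na (mem_zpowers a)
  refine (quotient_sub1 (hY.trans nL)).1 (lemF1 (p := p) (a := coset (core {s} L) a)
    (by rw [← coset_pow na', ha, coset_one]) (quotient_sol _ hs)
    (quotient_norm _ _ (mem_quotient _ haL)) (coprime_quo _ hc) (quotientS _ hY)
    (quotient_pgroup _ hYs) (by rw [← quotient_cycle na', ← quotientR (hY.trans nL) na, e]) ?_
    (trivg_pcore_quotient _ _))
  rw [← coprime_quotient_cent1 (.inl (pcore_sub _ _)) na' (by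
    rw [← Nat.card_zpowers]; exact coprimeSg (pcore_sub _ _) (cop_cyc ha (not_dvd_of_cop hc)))]
  exact quotient_norms _ hn

omit hp in
/-- `J = [J, c]` is generated by the `[C_J(b), c]` -/
theorem gen_comm (hB : IsMulCommutative B) (hn : ¬ IsCyclic B) (hc : c ∈ B) {J : Subgroup G}
    (hs : Group.IsSolvable J) (hBJ : B ≤ 𝐍[J]) (hco : (Nat.card J).Coprime (Nat.card B))
    (e : ⁅J, ⟪c⟫⁆ = J) (hN : N ≤ J) (hcN : c ∈ 𝐍[N])
    (h : ∀ b ∈ B, b ≠ 1 → ⁅J ⊓ 𝐂₁[b], ⟪c⟫⁆ ≤ N) : J ≤ N := by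
  have hcB : ⟪c⟫ ≤ B := zpowers_le.2 hc
  have hcN' : ⟪c⟫ ≤ 𝐍[N] := zpowers_le.2 hcN
  suffices H : ∀ L : Subgroup G, L ⊴ J → B ≤ 𝐍[L] → J ≤ N ⊔ L → J ≤ N from
    H J (normal_refl J) hBJ le_sup_right
  intro L
  induction L using WellFoundedLT.induction with
  | ind L ih =>
  intro hL hBL hJ
  by_cases h0 : L = ⊥
  · simpa [h0] using hJ
  refine ih _ (sol_der1_proper (solvableS hL.le hs) h0) hL.der (normsR hBL hBL) ?_
  set N1 := N ⊔ ⁅L, L⁆
  have hN1 : N1 ≤ J := sup_le hN hL.der.le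
  have hLE : L ≤ 𝐍[N1 ⊓ L] := sub_der1_norm (le_inf le_sup_right (der_sub L)) inf_le_right
  have hN1E : N1 ≤ 𝐍[N1 ⊓ L] := normsIG le_rfl (hN1.trans hL.norm)
  have hJE : J ≤ 𝐍[N1 ⊓ L] := hJ.trans (sup_le (le_sup_left.trans hN1E) hLE)
  have hcE : ⟪c⟫ ≤ 𝐍[N1 ⊓ L] := normsI (normsY hcN' (hcB.trans (normsR hBL hBL))) (hcB.trans hBL)
  have h1 : ⁅L, ⟪c⟫⁆ ≤ N1 ⊓ L := by
    refine (le_commStab.1 (coprime_abelian_gen_cent1_le hB hn hBL (coprimeSg hL.le hco)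
      fun b hb h1 => le_commStab.2 ⟨inf_le_left.trans hLE, le_inf ?_ ?_⟩)).2
    · exact ((commSg _ (inf_le_inf_right _ hL.le)).trans (h b hb h1)).trans le_sup_left
    · exact (commSg _ inf_le_left).trans (commg_subl.2 (hcB.trans hBL))
  have h2 : ⁅J, L⁆ ≤ N1 ⊓ L := by
    have := three_subgroup_mod (X := J) (Y := L) (Z := ⟪c⟫) hJE hLE hcE
      ((commSg _ (commg_subr.2 hL.norm)).trans h1) ((commSg _ h1).trans (commg_subl.2 hJE))
    rwa [commGC ⟪c⟫, e] at this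
  have hLN : L ≤ 𝐍[N1] := commg_subl.1 ((commSg _ hN1).trans (h2.trans inf_le_left))
  have hcN1 : ⟪c⟫ ≤ 𝐍[N1] := normsY hcN' (hcB.trans (normsR hBL hBL))
  rw [← e]
  exact (commSg _ hJ).trans (commg_sup_le (normsG le_sup_left) hLN
    ((commg_subl.2 hcN').trans le_sup_left) (h1.trans inf_le_left))

omit hp in
/-- a coprime group centralizing a self-centralizing subgroup of a nilpotent group -/
theorem cent_of_selfcent (hn : Group.IsNilpotent F) (hU : A ≤ 𝐍[F])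
    (hc : (Nat.card F).Coprime (Nat.card A)) (hX : X ≤ F) (hs : F ⊓ 𝐂[X] ≤ X) (h : A ≤ 𝐂[X]) :
    A ≤ 𝐂[F] :=
  coprime_nil_faithful_cent_stab hU hc hn
    (((inf_le_inf_left _ (centS (le_inf hX (centsC.1 h)))).trans hs).trans (centsC.1 h))

end Cfsg.FT.SFT
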