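import Cfsg.Agent.FT.App.SFTa

/-!
# Solvable signalizer functor theorem, part b: definitions and the inductive reductions
-/

set_option autoImplicit false

namespace Cfsg.FT.SFT
open scoped Pointwise
open Subgroup

universe u

variable {G : Type u} [Group G]

/-- a solvable signalizer functor with values of odd order -/
structure Sig (p : ℕ) (A : Subgroup G) (θ : G → Subgroup G) : Prop where
  ab : IsElementaryAbelian p A
  rk : p ^ 3 ≤ Nat.card A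
  cent : ∀ a ∈ A, a ≠ 1 → θ a ≤ 𝐂₁[a]
  norm : ∀ a ∈ A, a ≠ 1 → A ≤ 𝐍[θ a]
  cop : ∀ a ∈ A, a ≠ 1 → (Nat.card (θ a)).Coprime (2 * p)
  sol : ∀ a ∈ A, a ≠ 1 → Group.IsSolvable (θ a)
  bal : ∀ a ∈ A, a ≠ 1 → ∀ b ∈ A, b ≠ 1 → θ a ⊓ 𝐂₁[b] ≤ θ b

/-- `θ`-subgroups -/
structure Th (p : ℕ) (A : Subgroup G) (θ : G → Subgroup G) (X : Subgroup G) : Prop where
  norm : A ≤ 𝐍[X]
  cop : (Nat.card X).Coprime (2 * p)
  sol : Group.IsSolvable X
  le : ∀ a ∈ A, a ≠ 1 → X ⊓ 𝐂₁[a] ≤ θ a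

/-- completeness -/
def Compl (p : ℕ) (A : Subgroup G) (θ : G → Subgroup G) : Prop :=
  ∃ W, Th p A θ W ∧ ∀ a ∈ A, a ≠ 1 → θ a ≤ W

/-- `C_θ(A)` -/
def DD (A : Subgroup G) (θ : G → Subgroup G) : Subgroup G := ⨅ a ∈ nz A, θ a

/-- the induction measure -/
noncomputable def meas (A : Subgroup G) (θ : G → Subgroup G) : ℕ :=
  {z : G × G | z.1 ∈ A ∧ z.1 ≠ 1 ∧ z.2 ∈ θ z.1}.ncard

variable {p : ℕ} {θ : G → Subgroup G}
variable {A B F H K L M N V X Y : Subgroup G} {a b c d : G}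

theorem DD_le (ha : a ∈ A) (h1 : a ≠ 1) : DD A θ ≤ θ a := biInf_le _ (show a ∈ nz A from ⟨ha, h1⟩)

theorem le_DD (h : ∀ a ∈ A, a ≠ 1 → X ≤ θ a) : X ≤ DD A θ := le_iInf₂ fun a ha => h a ha.1 ha.2

theorem Th.le_DD (h : Th p A θ X) : X ⊓ 𝐂[A] ≤ DD A θ :=
  SFT.le_DD fun a ha h1 => (inf_le_inf_left _ (cent_le_cent1 ha)).trans (h.le a ha h1)

theorem Sig.DD_cent (h : Sig p A θ) : DD A θ ≤ 𝐂[A] := centsC.1 fun a ha => by
  by_cases h1 : a = 1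
  · rw [h1]; exact one_mem _
  · exact le_cent1.1 ((DD_le ha h1).trans (h.cent a ha h1))

theorem Sig.th (h : Sig p A θ) (ha : a ∈ A) (h1 : a ≠ 1) : Th p A θ (θ a) :=
  ⟨h.norm a ha h1, h.cop a ha h1, h.sol a ha h1, h.bal a ha h1⟩

theorem Th.sub (h : Th p A θ X) (hY : Y ≤ X) (hn : A ≤ 𝐍[Y]) : Th p A θ Y :=
  ⟨hn, coprimeSg hY h.cop, solvableS hY h.sol,
    fun a ha h1 => (inf_le_inf_right _ hY).trans (h.le a ha h1)⟩

theorem Th.inf (h : Th p A θ X) (hn : A ≤ 𝐍[Y]) : Th p A θ (X ⊓ Y) :=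
  h.sub inf_le_left (normsI h.norm hn)

theorem th_bot : Th p A θ ⊥ := ⟨norms1 A, by simp, solvable1, fun _ _ _ => inf_le_left.trans bot_le⟩

theorem Sig.pow (h : Sig p A θ) (ha : a ∈ A) : a ^ p = 1 := h.ab.2 a ha

theorem Sig.A_cent1 (h : Sig p A θ) (ha : a ∈ A) : A ≤ 𝐂₁[a] :=
  (abelian_iff.1 h.ab.1).trans (cent_le_cent1 ha)

theorem Sig.A_norm_cent1 (h : Sig p A θ) (ha : a ∈ A) : A ≤ 𝐍[𝐂₁[a]] := normsG (h.A_cent1 ha)

theorem Sig.A_norm_cyc (h : Sig p A θ) (ha : a ∈ A) : A ≤ 𝐍[⟪a⟫] := norms_cycle (h.A_cent1 ha)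

theorem Sig.conj (h : Sig p A θ) (hX : Th p A θ X) (hd : d ∈ DD A θ) : Th p A θ (d •ᶜ X) := by
  refine ⟨(norm_conj_cent (h.DD_cent hd)).2 hX.norm, by rw [card_conj]; exact hX.cop,
    isSolvable_conj.2 hX.sol, fun a ha h1 => ?_⟩
  have h2 := DD_le ha h1 hd
  rw [← conj_eq_of_mem (h.cent a ha h1 h2), ← conj_inf]
  exact conj_le_of_mem h2 (hX.le a ha h1)

variable [Finite G] [hp : Fact p.Prime]

theorem Sig.copA (h : Sig p A θ) (hX : Th p A θ X) (hB : B ≤ A) :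
    (Nat.card X).Coprime (Nat.card B) :=
  (coprime_pgroup (abelemS hB h.ab).isPGroup (not_dvd_of_cop hX.cop)).symm

theorem Sig.cop1 (h : Sig p A θ) (hX : Th p A θ X) (ha : a ∈ A) :
    (Nat.card X).Coprime (Nat.card ⟪a⟫) := h.copA hX (zpowers_le.2 ha)

theorem Sig.sup (h : Sig p A θ) (hX : Th p A θ X) (hY : Th p A θ Y) (hn : Y ≤ 𝐍[X]) :
    Th p A θ (X ⊔ Y) := by
  refine ⟨normsY hX.norm hY.norm, ?_, sol_sup hn hX.sol hY.sol, fun a ha h1 => ?_⟩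
  · exact (hX.cop.mul_left hY.cop).of_dvd_left ⟨_, (mulEq_of_norm hn).card.symm⟩
  · have hz := zpowers_le.2 ha
    rw [← cent_cycle, coprime_cent_join hn (hz.trans hX.norm) (hz.trans hY.norm) (h.cop1 hX ha)
      (.inl hX.sol), cent_cycle]
    exact sup_le (hX.le a ha h1) (hY.le a ha h1)

theorem Sig.gen (h : Sig p A θ) (hX : Th p A θ X) (hB : B ≤ A) (hn : ¬ IsCyclic B)
    (hL : ∀ b ∈ B, b ≠ 1 → X ⊓ 𝐂₁[b] ≤ L) : X ≤ L :=
  coprime_abelian_gen_cent1_le (abelianS hB h.ab.1) hn (hB.trans hX.norm) (h.copA hX hB) hL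

omit [Finite G] in
theorem Sig.card_cyc (h : Sig p A θ) (hB : B ≤ A) (hc : IsCyclic B) : Nat.card B ≤ p :=
  Nat.le_of_dvd hp.out.pos (card_dvd_of_abelem_cyclic (abelemS hB h.ab) hc)

omit [Finite G] in
theorem Sig.ncyc (h : Sig p A θ) : ¬ IsCyclic A := fun hc => by
  have := h.rk.trans (h.card_cyc le_rfl hc)
  have h2 := Nat.pow_lt_pow_right hp.out.one_lt (show 1 < 3 by norm_num)
  rw [pow_one] at h2
  omega

omit [Finite G] in
theorem Sig.big (h : Sig p A θ) (hB : B ≤ A) (hc : IsCyclic (A ⁄ B)) :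
    Nat.card A ≤ Nat.card B * p := by
  rw [← card_quo_mul (sub_abelian_normal h.ab.1 hB)]
  exact Nat.mul_le_mul_left _ (Nat.le_of_dvd hp.out.pos
    (card_dvd_of_abelem_cyclic (quotient_abelem B h.ab) hc))

omit [Finite G] in
theorem Sig.big_ncyc (h : Sig p A θ) (hB : B ≤ A) (hc : Nat.card A ≤ Nat.card B * p) :
    ¬ IsCyclic B := fun h' => by
  have h1 := h.rk.trans (hc.trans (Nat.mul_le_mul_right _ (h.card_cyc hB h')))
  have h2 := Nat.pow_lt_pow_right hp.out.one_lt (show 2 < 3 by norm_num)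
  rw [sq] at h2
  omega

theorem Sig.big_meet (h : Sig p A θ) {B' : Subgroup G} (hB : B ≤ A)
    (hc : Nat.card A ≤ Nat.card B * p) (hB' : B' ≤ A) (hc' : Nat.card A ≤ Nat.card B' * p) :
    ∃ b ∈ B, b ∈ B' ∧ b ≠ 1 := by
  by_contra hn
  push Not at hn
  have h0 : B ⊓ B' = ⊥ := eq_bot_iff.2 fun x hx => mem_bot.2 (hn x hx.1 hx.2)
  have h1 := (mulEq_of_norm (hB'.trans (sub_abelian_norm h.ab.1 hB))).card
  rw [h0, card_bot, mul_one] at h1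
  have h2 := h1 ▸ card_le_of_le (sup_le hB hB')
  have h3 : Nat.card A * Nat.card A ≤ Nat.card A * (p * p) :=
    calc _ ≤ Nat.card B * p * (Nat.card B' * p) := Nat.mul_le_mul hc hc'
      _ = Nat.card B * Nat.card B' * (p * p) := by ring
      _ ≤ _ := Nat.mul_le_mul_right _ h2
  have h4 := h.rk.trans (Nat.le_of_mul_le_mul_left h3 Nat.card_pos)
  have h5 := Nat.pow_lt_pow_right hp.out.one_lt (show 2 < 3 by norm_num)
  rw [sq] at h5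
  omega

theorem Sig.exists_big (h : Sig p A θ) (hX : Th p A θ X) (hL : ¬ X ≤ L) :
    ∃ B ≤ A, Nat.card A ≤ Nat.card B * p ∧ ¬ X ⊓ 𝐂[B] ≤ L := by
  by_contra hn
  push Not at hn
  exact hL (coprime_abelian_gen_cent_le h.ab.1 hX.norm (h.copA hX le_rfl)
    fun B hB hc => hn B hB (h.big hB hc))

/-- a line through `c` -/
theorem Sig.line (h : Sig p A θ) (hc : c ∈ A) (h1 : c ≠ 1) (hL : ¬ θ c ≤ L) :
    ∃ B ≤ A, c ∈ B ∧ ¬ IsCyclic B ∧ ∃ E, ¬ E ≤ L ∧ E ≤ θ c ∧ ∀ b ∈ B, b ≠ 1 → E ≤ θ b := by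
  have hz := zpowers_le.2 hc
  have hcard : Nat.card ⟪c⟫ = p := by rw [Nat.card_zpowers, abelem_order_p h.ab hc h1]
  obtain ⟨W, hW⟩ := abelem_split_dprod h.ab hz
  have hWA : W ≤ A := hW.1 ▸ le_sup_right
  have hbig : Nat.card A ≤ Nat.card W * p := by
    have := (mulEq_of_norm (cents_norm hW.2.2)).card
    rw [hW.1, hW.2.1, card_bot, mul_one, hcard] at this
    rw [this, mul_comm]
  obtain ⟨b, hb, hb1, hn⟩ := coprime_abelian_exists_cent1 (abelianS hWA h.ab.1) (h.big_ncyc hWA hbig)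
    (hWA.trans (h.norm c hc h1)) (h.copA (h.th hc h1) hWA) hL
  have hB : ⟪c⟫ ⊔ ⟪b⟫ ≤ A := sup_le hz (zpowers_le.2 (hWA hb))
  refine ⟨_, hB, mem_sup_left (mem_zpowers c), fun hcy => ?_, _, hn, inf_le_left, fun x hx hx1 => ?_⟩
  · have e := card_eq_of_le (le_sup_left : ⟪c⟫ ≤ ⟪c⟫ ⊔ ⟪b⟫) (hcard ▸ h.card_cyc hB hcy)
    have : b ∈ ⟪c⟫ ⊓ W := ⟨e ▸ mem_sup_right (mem_zpowers b), hb⟩
    rw [hW.2.1] at this
    exact hb1 this
  · refine le_trans (le_inf inf_le_left ?_) (h.bal c hc h1 x (hB hx) hx1)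
    refine le_trans ?_ (cent_le_cent1 hx)
    rw [centY, cent_cycle, cent_cycle]
    exact inf_le_inf_right _ (h.cent c hc h1)

theorem Sig.compl_of_line (h : Sig p A θ) (hM : Th p A θ M) (hB : B ≤ A) (hn : ¬ IsCyclic B)
    (hL : ∀ b ∈ B, b ≠ 1 → θ b ≤ M) : Compl p A θ :=
  ⟨M, hM, fun a ha h1 => h.gen (h.th ha h1) hB hn fun b hb hb1 =>
    (h.bal a ha h1 b (hB hb) hb1).trans (hL b hb hb1)⟩

theorem Sig.compl_of_two (h : Sig p A θ) (hM : Th p A θ M) (hN : Th p A θ N)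
    (hL : ∀ b ∈ A, b ≠ 1 → θ b ≤ M ∨ θ b ≤ N) : Compl p A θ := by
  by_cases h0 : ∀ b ∈ A, b ≠ 1 → θ b ≤ M
  · exact ⟨M, hM, h0⟩
  push Not at h0
  obtain ⟨c, hc, h1, hn⟩ := h0
  obtain ⟨B, hB, -, hcy, E, hE, -, hE'⟩ := h.line hc h1 hn
  exact h.compl_of_line hN hB hcy fun b hb hb1 =>
    (hL b (hB hb) hb1).resolve_left fun h' => hE ((hE' b hb hb1).trans h')

theorem Sig.exists_ne_bot (h : Sig p A θ) (hX : Th p A θ X) (h0 : X ≠ ⊥) :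
    ∃ a ∈ A, a ≠ 1 ∧ X ⊓ 𝐂₁[a] ≠ ⊥ := by
  by_contra hn
  push Not at hn
  exact h0 (eq_bot_iff.2 (h.gen hX le_rfl h.ncyc fun b hb hb1 => (hn b hb hb1).le))

/-- local completeness -/
theorem Sig.lc (h : Sig p A θ) (ih : ∀ (G' : Type u) [Group G'] [Finite G'] (A' : Subgroup G')
      (θ' : G' → Subgroup G'), Sig p A' θ' → meas A' θ' < meas A θ → Compl p A' θ')
    (hX : Th p A θ X) (h0 : X ≠ ⊥) :
    ∃ W, Th p A θ W ∧ W ≤ 𝐍[X] ∧ ∀ Y, Th p A θ Y → Y ≤ 𝐍[X] → Y ≤ W := by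
  classical
  have hA := hX.norm
  have hTI : X ⊓ A = ⊥ := coprime_TIg (h.copA hX le_rfl)
  have one : ∀ a ∈ A, coset X a = 1 → a = 1 := fun a ha e =>
    mem_bot.1 (hTI ▸ (⟨coset_idr (hA ha) e, ha⟩ : a ∈ X ⊓ A))
  have inj : ∀ a ∈ A, ∀ b ∈ A, coset X a = coset X b → a = b := fun a ha b hb e =>
    inv_mul_eq_one.1 (mem_bot.1 (hTI ▸ (⟨(coset_eq_iff (hA ha) (hA hb)).1 e,
      A.mul_mem (A.inv_mem ha) hb⟩ : _ ∈ X ⊓ A)))
  let θ' : Q X → Subgroup (Q X) := fun y =>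
    if h : ∃ a ∈ A, coset X a = y then θ h.choose ⁄ X else ⊥
  have e : ∀ a ∈ A, θ' (coset X a) = θ a ⁄ X := fun a ha => by
    have h' : ∃ b ∈ A, coset X b = coset X a := ⟨a, ha, rfl⟩
    simp only [θ', dif_pos h']
    rw [inj _ h'.choose_spec.1 a ha h'.choose_spec.2]
  have red : ∀ {P : Q X → Prop}, (∀ a ∈ A, a ≠ 1 → P (coset X a)) → ∀ y ∈ A ⁄ X, y ≠ 1 → P y :=
    fun hP y hy h1 => by
      obtain ⟨a, ha, -, rfl⟩ := mem_quo.1 hy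
      exact hP a ha fun e => h1 (by rw [e, coset_one])
  have hS : Sig p (A ⁄ X) θ' := by
    refine ⟨quotient_abelem X h.ab, by rw [card_quotient_of_TI hA hTI]; exact h.rk,
      red fun a ha h1 => ?_, red fun a ha h1 => ?_, red fun a ha h1 => ?_, red fun a ha h1 => ?_,
      red fun a ha h1 => red fun b hb hb1 => ?_⟩ <;> rw [e a ha]
    · exact (quotientS X (h.cent a ha h1)).trans (quotient_cent1 X a)
    · exact quotient_norms X (h.norm a ha h1)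
    · exact coprime_quo X (h.cop a ha h1)
    · exact quotient_sol X (h.sol a ha h1)
    · rw [e b hb, ← coprime_quotient_cent1 (.inr (h.norm a ha h1 hb)) (hA hb)
        (by rw [← Nat.card_zpowers]; exact h.cop1 hX hb)]
      exact quotientS X (h.bal a ha h1 b hb hb1)
  have hlt : meas (A ⁄ X) θ' < meas A θ := by
    let S : Set (G × G) := {z | z.1 ∈ A ∧ z.1 ≠ 1 ∧ z.2 ∈ θ z.1}
    let f : G × G → Q X × Q X := fun z => (coset X z.1, coset X z.2)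
    refine lt_of_le_of_lt (Set.ncard_le_ncard (t := f '' S) ?_) ?_
    · rintro ⟨y, w⟩ ⟨hy, h1, hw⟩
      obtain ⟨a, ha, -, rfl⟩ := mem_quo.1 hy
      rw [e a ha] at hw
      obtain ⟨x, hx, -, rfl⟩ := mem_quo.1 hw
      exact ⟨(a, x), ⟨ha, fun e => h1 (by rw [show a = 1 from e, coset_one]), hx⟩, rfl⟩
    · refine lt_of_le_of_ne (Set.ncard_image_le) fun e' => ?_
      obtain ⟨a, ha, h1, hn⟩ := h.exists_ne_bot hX h0
      obtain ⟨⟨x, hx⟩, hx1⟩ := ne_bot_iff_exists_ne_one.1 hn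
      have := Set.injOn_of_ncard_image_eq e' (Set.toFinite _) (x₁ := (a, x)) (x₂ := (a, 1))
        ⟨ha, h1, hX.le a ha h1 hx⟩ ⟨ha, h1, one_mem _⟩ (by simp [f, coset_id hx.1])
      exact hx1 (Subtype.ext (Prod.ext_iff.1 this).2)
  obtain ⟨W, hW, hW'⟩ := ih _ _ _ hS hlt
  have ne : ∀ a ∈ A, a ≠ 1 → coset X a ≠ 1 := fun a ha h1 e => h1 (one a ha e)
  refine ⟨pre X W, ⟨norms_pre hA hW.norm, by rw [card_cosetpre]; exact hX.cop.mul_left hW.cop,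
    sol_pre hX.sol hW.sol, fun a ha h1 => ?_⟩, pre_le_norm W, fun Y hY hn => ?_⟩
  · have hT := h.sup hX ((h.th ha h1).inf (norms_norm hA)) inf_le_right
    refine le_trans (le_inf ?_ inf_le_right) (hT.le a ha h1)
    rw [← quotientK inf_le_right, ← sub_quotient_pre (inf_le_left.trans (pre_le_norm W)), inf_comm (θ a),
      quotientInorm, ← e a ha]
    refine le_trans ?_ (hW.le _ (mem_quotient X ha) (ne a ha h1))
    simpa using quotient_subcent1 (pre X W) X a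
  · refine h.gen hY le_rfl h.ncyc fun a ha h1 => (sub_quotient_pre (inf_le_left.trans hn)).1 ?_
    exact (quotientS X (hY.le a ha h1)).trans (e a ha ▸ hW' _ (mem_quotient X ha) (ne a ha h1))

/-- the completion of `θ_ρ` -/
theorem Sig.kk (h : Sig p A θ) (ih : ∀ θ' : G → Subgroup G, Sig p A θ' → meas A θ' < meas A θ →
      Compl p A θ') (ρ : Set ℕ) (h0 : ∃ a ∈ A, a ≠ 1 ∧ ¬ PiSub ρ (θ a)) :
    ∃ K, Th p A θ K ∧ PiSub ρ K ∧ ∀ X, Th p A θ X → PiSub ρ X → DD A θ ≤ 𝐍[X] → X ≤ K := by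
  let θ' : G → Subgroup G := fun a =>
    ⨆ X : {X // Th p A θ X ∧ PiSub ρ X ∧ DD A θ ≤ 𝐍[X] ∧ X ≤ θ a}, X.1
  have le : ∀ a, θ' a ≤ θ a := fun a => iSup_le fun X => X.2.2.2.2
  have ge : ∀ a X, Th p A θ X → PiSub ρ X → DD A θ ≤ 𝐍[X] → X ≤ θ a → X ≤ θ' a :=
    fun a X h1 h2 h3 h4 => le_iSup_of_le ⟨X, h1, h2, h3, h4⟩ le_rfl
  have nA : ∀ a, A ≤ 𝐍[θ' a] := fun a => norms_iSup fun X => X.2.1.norm
  have nD : ∀ a, DD A θ ≤ 𝐍[θ' a] := fun a => norms_iSup fun X => X.2.2.2.1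
  have pi : ∀ a ∈ A, a ≠ 1 → PiSub ρ (θ' a) := fun a ha h1 => by
    have ht := h.th ha h1
    obtain ⟨H, hH, hAH⟩ := coprime_Hall_exists ρ ht.norm (h.copA ht le_rfl) ht.sol
    refine hH.pi.of_le (iSup_le fun ⟨X, g1, g2, g3, g4⟩ => ?_)
    obtain ⟨c, hc, hl⟩ := coprime_Hall_subJ ht.norm (h.copA ht le_rfl) ht.sol hH hAH g4 g2 g1.norm
    rwa [le_conj_iff, conj_eq_of_mem_norm (inv_mem (g3 (ht.le_DD hc)))] at hl
  have cut : ∀ X, Th p A θ X → PiSub ρ X → DD A θ ≤ 𝐍[X] → ∀ b ∈ A, b ≠ 1 → X ⊓ 𝐂₁[b] ≤ θ' b :=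
    fun X h1 h2 h3 b hb hb1 => ge b _ (h1.inf (h.A_norm_cent1 hb)) (h2.inf_left _)
      (normsI h3 (normsG (h.DD_cent.trans (cent_le_cent1 hb)))) (h1.le b hb hb1)
  have hS : Sig p A θ' := ⟨h.ab, h.rk, fun a ha h1 => (le a).trans (h.cent a ha h1),
    fun a _ _ => nA a, fun a ha h1 => coprimeSg (le a) (h.cop a ha h1),
    fun a ha h1 => solvableS (le a) (h.sol a ha h1),
    fun a ha h1 => cut _ ((h.th ha h1).sub (le a) (nA a)) (pi a ha h1) (nD a)⟩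
  obtain ⟨W, hW, hW'⟩ := ih _ hS (by
    refine Set.ncard_lt_ncard ⟨fun z hz => ⟨hz.1, hz.2.1, le _ hz.2.2⟩, fun hs => ?_⟩
    obtain ⟨a, ha, h1, hn⟩ := h0
    exact hn ((pi a ha h1).of_le fun x hx => (@hs (a, x) ⟨ha, h1, hx⟩).2.2))
  have hW2 : Th p A θ W := ⟨hW.norm, hW.cop, hW.sol, fun a ha h1 => (hW.le a ha h1).trans (le a)⟩
  refine ⟨W, hW2, fun r hr hd => ?_, fun X h1 h2 h3 => h.gen h1 le_rfl h.ncyc fun b hb hb1 =>
    (cut X h1 h2 h3 b hb hb1).trans (hW' b hb hb1)⟩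
  haveI := Fact.mk hr
  obtain ⟨R, hR, hAR⟩ := sol_coprime_Sylow_exists r (.inl hW.sol) hW.norm (h.copA hW2 le_rfl)
  obtain ⟨a, ha, h1, hn⟩ := h.exists_ne_bot (hW2.sub hR.le hAR) (hR.ne_bot hd)
  exact (pi a ha h1).mem_of_pgroup (hR.pgroup.to_le inf_le_left)
    ((inf_le_inf_right _ hR.le).trans (hW.le a ha h1)) hn

end Cfsg.FT.SFT
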