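import Cfsg.Agent.FT.App.SFTb

/-!
# Solvable signalizer functor theorem, part c: transitivity, Bender's method
-/

set_option autoImplicit false

namespace Cfsg.FT.SFT
open scoped Pointwise
open Subgroup

universe u

variable {G : Type u} [Group G]

/-- a minimal counterexample -/
structure Cx (p : ℕ) (A : Subgroup G) (θ : G → Subgroup G) : Prop extends Sig p A θ where
  lc' : ∀ X, Th p A θ X → X ≠ ⊥ →
    ∃ W, Th p A θ W ∧ W ≤ 𝐍[X] ∧ ∀ Y, Th p A θ Y → Y ≤ 𝐍[X] → Y ≤ W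
  kk' : ∀ ρ : Set ℕ, (∃ a ∈ A, a ≠ 1 ∧ ¬ PiSub ρ (θ a)) →
    ∃ K, Th p A θ K ∧ PiSub ρ K ∧ ∀ X, Th p A θ X → PiSub ρ X → DD A θ ≤ 𝐍[X] → X ≤ K
  nc : ¬ Compl p A θ

abbrev Mx (p : ℕ) (A : Subgroup G) (θ : G → Subgroup G) (M : Subgroup G) : Prop :=
  Maximal (Th p A θ) M

abbrev MxQ (p : ℕ) (A : Subgroup G) (θ : G → Subgroup G) (q : ℕ) (S : Subgroup G) : Prop :=
  Maximal (fun X => Th p A θ X ∧ IsPGroup q X) S

/-- `M` contains `θ(N(U))` -/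
def Ov (p : ℕ) (A : Subgroup G) (θ : G → Subgroup G) (U M : Subgroup G) : Prop :=
  ∀ Y, Th p A θ Y → Y ≤ 𝐍[U] → Y ≤ M

/-- Bender's relation -/
def Arr (M H : Subgroup G) : Prop := ∃ X, X ≤ fit M ∧ X ≤ H ∧ fit M ⊓ 𝐂[X] ≤ X

variable {p q s v : ℕ} {θ : G → Subgroup G}
variable {A B F H K L M N S U V X Y : Subgroup G} {a b c d : G}

theorem Th.core (h : Th p A θ X) (π : Set ℕ) : Th p A θ (core π X) :=
  h.sub (pcore_sub _ _) (norms_pcore _ h.norm)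

theorem Th.fit (h : Th p A θ X) : Th p A θ (fit X) := h.sub (Fitting_sub _) (norms_Fitting h.norm)

theorem Th.center (h : Th p A θ X) : Th p A θ 𝐙[X] := h.inf (norms_cent h.norm)

theorem arr_of_ov (hM : Th p A θ M) (hU : U ≤ fit M) (hn : A ≤ 𝐍[U]) (h : Ov p A θ U H) : Arr M H :=
  ⟨fit M ⊓ 𝐍[U], inf_le_left, h _ (hM.fit.inf (norms_norm hn)) inf_le_right,
    inf_le_inf_left _ ((centS (le_inf hU (normG U))).trans (cent_sub U))⟩

theorem Cx.ov (h : Cx p A θ) (hM : Mx p A θ M) (hU : Th p A θ U) (h0 : U ≠ ⊥) (hn : M ≤ 𝐍[U]) :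
    Ov p A θ U M := fun Y hY hl => by
  obtain ⟨W, h1, -, h3⟩ := h.lc' U hU h0
  exact (h3 Y hY hl).trans (hM.2 h1 (h3 M hM.1 hn))

theorem Cx.mx_ne (h : Cx p A θ) (hM : Mx p A θ M) : M ≠ ⊥ := fun e =>
  h.nc ⟨M, hM.1, fun _ ha h1 => hM.2 (h.th ha h1) (e.le.trans bot_le)⟩

variable [Finite G]

theorem exists_mx (hX : Th p A θ X) : ∃ M, X ≤ M ∧ Mx p A θ M := Finite.exists_le_maximal hX

theorem exists_mxq (hX : Th p A θ X) (hq : IsPGroup q X) : ∃ M, X ≤ M ∧ MxQ p A θ q M :=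
  Finite.exists_le_maximal (p := fun X => Th p A θ X ∧ IsPGroup q X) ⟨hX, hq⟩

theorem Cx.exists_ov (h : Cx p A θ) (hU : Th p A θ U) (h0 : U ≠ ⊥) :
    ∃ M, Mx p A θ M ∧ Ov p A θ U M := by
  obtain ⟨W, h1, -, h3⟩ := h.lc' U hU h0
  obtain ⟨M, h4, h5⟩ := exists_mx h1
  exact ⟨M, h5, fun Y hY hl => (h3 Y hY hl).trans h4⟩

omit [Finite G] in
theorem Sig.mxq_conj (h : Sig p A θ) (hS : MxQ p A θ q S) (hd : d ∈ DD A θ) :
    MxQ p A θ q (d •ᶜ S) :=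
  ⟨⟨h.conj hS.1.1 hd, isPGroup_conj.2 hS.1.2⟩, fun _ hT hl => le_conj_iff.2
    (hS.2 ⟨h.conj hT.1 (inv_mem hd), isPGroup_conj.2 hT.2⟩ (conj_le_iff.1 hl))⟩

theorem Arr.center [Fact s.Prime] (h : Arr M H) : 𝐙[core {s} M] ≤ H := by
  obtain ⟨X, h1, h2, h3⟩ := h
  refine le_trans (le_inf (inf_le_left.trans (pcore_sub_Fitting s M)) ?_) (h3.trans h2)
  exact centsS (h1.trans (Fitting_le_sup s M))
    (centsY inf_le_right (inf_le_left.trans (centsC.1 (p'core_cents _ M))))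

theorem mixed_of (hs : Group.IsSolvable M) [Fact s.Prime] (h : core {s}ᶜ M ≠ ⊥) :
    ∃ w, w.Prime ∧ w ≠ s ∧ core {w} M ≠ ⊥ := by
  obtain ⟨w, hw, h1⟩ := sol_core_ne_bot (solvableS (pcore_sub _ _) hs) h
  haveI := Fact.mk hw
  exact ⟨w, hw, (pcore_pgroup _ M).mem_of_pgroup (pcore_pgroup' w _) (pcore_sub _ _) h1,
    fun e => h1 (eq_bot_iff.2 (((pcore_normal _ M).core_le _).trans e.le))⟩

theorem bender2 [Fact s.Prime] (hs : Group.IsSolvable M) (h : Arr M H) (h0 : core {s} M = ⊥) :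
    core {s} H ⊓ M = ⊥ := by
  obtain ⟨X, h1, h2, h3⟩ := h
  have hF : fit M ≤ core {s}ᶜ M := by simpa [h0] using Fitting_le_sup s M
  have hc : (Nat.card (core {s} H)).Coprime (Nat.card (fit M)) :=
    coprimegS hF (coprime_pcoreC _ H M)
  have hn : core {s} H ⊓ M ≤ 𝐍[fit M] := inf_le_right.trans (Fitting_normal M).norm
  have h4 : core {s} H ⊓ M ≤ 𝐂[fit M] := cent_of_selfcent (Fitting_nil M) hn
    (coprimeSg inf_le_left hc).symm h1 h3 (commG1P.1 (eq_bot_iff.2 ((commg_subI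
      (le_inf inf_le_left hn) (le_inf h1 (h2.trans (pcore_normal _ H).norm))).trans
      (coprime_TIg hc).le)))
  exact eq_bot_iff.2 ((le_inf inf_le_left ((le_inf inf_le_right h4).trans
    (cent_sub_Fitting hs))).trans (coprime_TIg hc).le)

theorem zne [Fact s.Prime] (h0 : core {s} M ≠ ⊥) : 𝐙[core {s} M] ≠ ⊥ :=
  center_nil_ne_bot (pgroup_nil (pcore_pgroup' s M)) h0

theorem Cx.zov [Fact s.Prime] (h : Cx p A θ) (hM : Mx p A θ M) (h0 : core {s} M ≠ ⊥) :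
    Ov p A θ 𝐙[core {s} M] M :=
  h.ov hM (hM.1.core _).center (zne h0) (pcore_normal _ M).center.norm

theorem Cx.bender1 [Fact s.Prime] (h : Cx p A θ) (hM : Mx p A θ M) (hH : Th p A θ H) (ha : Arr M H)
    (h0 : core {s} M ≠ ⊥) : core {s}ᶜ M ⊓ H ≤ core {s}ᶜ H := by
  have h1 : H ⊓ 𝐂[𝐙[core {s} M]] ≤ M := h.zov hM h0 _
    (hH.inf (norms_cent (hM.1.core _).center.norm)) (cents_norm inf_le_right)
  refine le_trans (le_inf (le_inf inf_le_right (inf_le_left.trans ?_)) inf_le_left) ((pcoreS _ h1).trans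
    (p'core_cent_pgroup ((pcore_pgroup' s M).to_le inf_le_left) ha.center hH.sol))
  exact centsS inf_le_left (p'core_cents _ M)

theorem Cx.bender3 [Fact s.Prime] [Fact v.Prime] (h : Cx p A θ) (hM : Mx p A θ M) (hH : Th p A θ H)
    (ha : Arr M H) (hs : core {s} M ≠ ⊥) (hv : core {v} M ≠ ⊥) (hne : s ≠ v) : core {v} H ≤ M :=
  h.zov hM hs _ (hH.core _) (cents_norm (centsS ((le_inf (inf_le_left.trans
    (sub_pcore (by simpa using hne.symm) M)) ha.center).trans (h.bender1 hM hH ha hv))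
    (centsC.1 (p'core_cents _ H))))

theorem bender_sigma [Fact s.Prime] (hs : Group.IsSolvable M) (h : Arr M H) (h' : Arr H M)
    (h0 : core {s} H ≠ ⊥) : core {s} M ≠ ⊥ := fun e =>
  zne h0 (eq_bot_iff.2 ((le_inf inf_le_left h'.center).trans (bender2 hs h e).le))

theorem Cx.bender_fit [Fact s.Prime] [Fact v.Prime] (h : Cx p A θ) (hM : Mx p A θ M)
    (hH : Th p A θ H) (ha : Arr M H) (hs : core {s} M ≠ ⊥) (hv : core {v} M ≠ ⊥) (hne : s ≠ v)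
    (hσ : ∀ u, u.Prime → core {u} H ≠ ⊥ → core {u} M ≠ ⊥) : fit H ≤ M :=
  Fitting_le_of_forall fun u hu => by
    haveI := Fact.mk hu
    by_cases h0 : core {u} H = ⊥
    · exact h0.le.trans bot_le
    by_cases e : s = u
    · exact h.bender3 hM hH ha hv (hσ u hu h0) (e ▸ hne.symm)
    · exact h.bender3 hM hH ha hs (hσ u hu h0) e

theorem Cx.bender_half [Fact s.Prime] (h : Cx p A θ) (hM : Mx p A θ M) (hH : Mx p A θ H)
    (ha : Arr H M) (h1 : fit M ≤ H) (h2 : fit H ≤ M) (hs : core {s} M ≠ ⊥) (hs' : core {s} H ≠ ⊥) :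
    core {s}ᶜ H ≤ core {s}ᶜ M := by
  have h3 := h.bender1 hH hM.1 ha hs'
  have h4 : core {s} M ≤ 𝐂[core {s}ᶜ H] := le_trans (le_inf le_rfl (centsS ((le_inf (Fitting_sub _)
    ((pcore_normal _ H).fit_le.trans h2)).trans h3) (centsC.1 (p'core_cents _ M))))
    (coprime_cent_Fitting (((pcore_sub_Fitting s M).trans h1).trans (pcore_normal _ H).norm)
      (coprime_pcoreC _ M H).symm (hH.1.core _).sol)
  exact (le_inf le_rfl (h.ov hM (hM.1.core _) hs (pcore_normal _ M).norm _ (hH.1.core _)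
    (cents_norm (centsC.1 h4)))).trans h3

theorem Cx.bender4 [Fact s.Prime] [Fact v.Prime] (h : Cx p A θ) (hM : Mx p A θ M) (hH : Mx p A θ H)
    (ha : Arr M H) (ha' : Arr H M) (hs : core {s} M ≠ ⊥) (hv : core {v} M ≠ ⊥) (hne : s ≠ v) :
    M = H := by
  have hs' := bender_sigma hH.1.sol ha' ha hs
  have hv' := bender_sigma hH.1.sol ha' ha hv
  have h1 := h.bender_fit hM hH.1 ha hs hv hne fun u hu =>
    haveI := Fact.mk hu; bender_sigma hM.1.sol ha ha'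
  have h2 := h.bender_fit hH hM.1 ha' hs' hv' hne fun u hu =>
    haveI := Fact.mk hu; bender_sigma hH.1.sol ha' ha
  have e := (h.bender_half hM hH ha' h2 h1 hs hs').antisymm (h.bender_half hH hM ha h1 h2 hs' hs)
  have h3 : H ≤ M := h.ov hM (hM.1.core {s}ᶜ) (fun e => hv (eq_bot_iff.2
    ((sub_pcore (by simpa using hne) M).trans e.le))) (pcore_normal _ M).norm H hH.1
    (e ▸ (pcore_normal _ H).norm)
  exact (hH.2 hM.1 h3).antisymm h3

variable [hp : Fact p.Prime]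

/-- the transitivity theorem -/
theorem Cx.trans [Fact q.Prime] (h : Cx p A θ) (R : Subgroup G) : ∀ S T : Subgroup G,
    MxQ p A θ q S → MxQ p A θ q T → R = S ⊓ T → ∃ d ∈ DD A θ, T = d •ᶜ S := by
  induction R using WellFoundedGT.induction with
  | ind R ih =>
  intro S T hS hT e
  have key : ∀ L, Th p A θ L → R < S ⊓ L → R < T ⊓ L → ∃ d ∈ DD A θ, T = d •ᶜ S := by
    intro L hL h1 h2
    have hc := h.copA hL le_rfl
    obtain ⟨S1, a1, a2, a3⟩ := sol_coprime_Sylow_subset (.inl hL.sol) hL.norm hc inf_le_right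
      (hS.1.2.to_le inf_le_left) (normsI hS.1.1.norm hL.norm)
    obtain ⟨T1, b1, b2, b3⟩ := sol_coprime_Sylow_subset (.inl hL.sol) hL.norm hc inf_le_right
      (hT.1.2.to_le inf_le_left) (normsI hT.1.1.norm hL.norm)
    obtain ⟨c, hc, e1⟩ := sol_coprime_Sylow_trans (.inl hL.sol) hL.norm hc a1 a2 b1 b2
    have hcD := hL.le_DD hc
    obtain ⟨S2, a4, a5⟩ := exists_mxq (hL.sub a1.le a2) a1.pgroup
    obtain ⟨T2, b4, b5⟩ := exists_mxq (hL.sub b1.le b2) b1.pgroup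
    obtain ⟨d1, hd1, e2⟩ := ih _ (h1.trans_le (le_inf inf_le_left (a3.trans a4))) S S2 hS a5 rfl
    obtain ⟨d2, hd2, e3⟩ := ih _ (h2.trans_le (b3.trans (le_inf (e1 ▸ conj_le_conj.2 a4) b4)))
      _ T2 (h.mxq_conj a5 hcD) b5 rfl
    obtain ⟨d3, hd3, e4⟩ := ih _ (h2.trans_le (le_inf (b3.trans b4) inf_le_left)) T2 T b5 hT rfl
    exact ⟨d3 * (d2 * (c * d1)), mul_mem hd3 (mul_mem hd2 (mul_mem hcD hd1)),
      by rw [e4, e3, e2, conj_conj, conj_conj, conj_conj, mul_assoc, mul_assoc]⟩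
  by_cases hST : S = T
  · exact ⟨1, one_mem _, by simp [hST]⟩
  have l1 : R < S := e ▸ inf_lt_left.2 fun hl => hST (hl.antisymm (hS.2 hT.1 hl))
  have l2 : R < T := e ▸ inf_lt_right.2 fun hl => hST ((hT.2 hS.1 hl).antisymm hl)
  by_cases h0 : R = ⊥
  · subst h0
    obtain ⟨B1, a1, a2, a3⟩ := h.exists_big hS.1.1 l1.not_ge
    obtain ⟨B2, b1, b2, b3⟩ := h.exists_big hT.1.1 l2.not_ge
    obtain ⟨b, c1, c2, c3⟩ := h.big_meet a1 a2 b1 b2
    have f : ∀ {X B : Subgroup G}, Th p A θ X → b ∈ B → ¬ X ⊓ 𝐂[B] ≤ ⊥ → ⊥ < X ⊓ θ b :=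
      fun hX hb hn => bot_lt_iff_ne_bot.2 fun e => hn ((le_inf inf_le_left
        ((inf_le_inf_left _ (cent_le_cent1 hb)).trans (hX.le b (a1 c1) c3))).trans e.le)
    exact key _ (h.th (a1 c1) c3) (f hS.1.1 c1 a3) (f hT.1.1 c2 b3)
  have hR : Th p A θ R := e ▸ hS.1.1.inf hT.1.1.norm
  obtain ⟨W, w1, -, w3⟩ := h.lc' R hR h0
  have f : ∀ {X : Subgroup G}, Th p A θ X ∧ IsPGroup q X → R < X → R < X ⊓ W := fun hX hl =>
    (nilpotent_proper_norm (pgroup_nil hX.2) hl).trans_le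
      (le_inf inf_le_left (w3 _ (hX.1.inf (norms_norm hR.norm)) inf_le_right))
  exact key W w1 (f hS.1 l1) (f hT.1 l2)

theorem Cx.inv_le [Fact q.Prime] (h : Cx p A θ) (hX : Th p A θ X) (hq : IsPGroup q X)
    (hn : DD A θ ≤ 𝐍[X]) (hS : MxQ p A θ q S) : X ≤ S := by
  obtain ⟨T, h1, h2⟩ := exists_mxq hX hq
  obtain ⟨d, hd, e⟩ := h.trans _ _ _ h2 hS rfl
  rw [e, ← conj_eq_of_mem_norm (hn hd)]
  exact conj_le_conj.2 h1

omit hp in
theorem Cx.zj0 [Fact q.Prime] (h : Cx p A θ) (hM : Mx p A θ M) (h0 : core {q}ᶜ M = ⊥)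
    (hS : Syl q S M) (hn : A ≤ 𝐍[S]) : Ov p A θ 𝐙[puig S] M := by
  have h1 := BG4P.Puig_center_p'core_normal (odd_of_cop hM.1.cop) hM.1.sol hS
  rw [h0, bot_sup_eq] at h1
  refine h.ov hM (hM.1.sub h1.le (char_norm_trans (BG4P.center_Puig_char S) hn)) (fun e => ?_) h1.norm
  exact h.mx_ne hM (h0 ▸ (pcore_pgroup_id (piSub_compl.2
    (hS.eq_bot_iff.1 (BG4P.trivg_center_Puig_pgroup hS.pgroup e)))).symm)

theorem Cx.zj1 [Fact q.Prime] (h : Cx p A θ) (hM : Mx p A θ M) (hD : DD A θ ≤ M)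
    (h0 : core {q}ᶜ M = ⊥) (hS : MxQ p A θ q S) : Syl q S M := by
  obtain ⟨S0, a1, a2⟩ := sol_coprime_Sylow_exists q (.inl hM.1.sol) hM.1.norm (h.copA hM.1 le_rfl)
  obtain ⟨S1, a3, a4⟩ := exists_mxq (hM.1.sub a1.le a2) a1.pgroup
  have e : S0 = S1 := nilpotent_sub_norm (pgroup_nil a4.1.2) a3 (a1.eq_of_le
    (a4.1.2.to_le inf_le_left) (le_inf a3 (normG S0)) (h.zj0 hM h0 a1 a2 _
      (a4.1.1.inf (norms_norm a2)) (inf_le_right.trans (BG4P.center_Puig_char S0).norm_le))).le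
  obtain ⟨d, hd, e'⟩ := h.trans _ _ _ a4 hS rfl
  rw [e', ← e]
  exact (sylJ (hD hd)).2 a1

theorem Cx.zj [Fact q.Prime] (h : Cx p A θ) (hM : Mx p A θ M) (hD : DD A θ ≤ M)
    (h0 : core {q}ᶜ M = ⊥) (hN : Mx p A θ N) (hD' : DD A θ ≤ N) (h0' : core {q}ᶜ N = ⊥) : M = N := by
  obtain ⟨S, -, hS⟩ := exists_mxq (th_bot (p := p) (A := A) (θ := θ)) (IsPGroup.of_bot (p := q))
  have h1 := BG4P.Puig_center_p'core_normal (odd_of_cop hM.1.cop) hM.1.sol (h.zj1 hM hD h0 hS)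
  rw [h0, bot_sup_eq] at h1
  have h2 := h.zj0 hN h0' (h.zj1 hN hD' h0' hS) hS.1.1.norm M hM.1 h1.norm
  exact h2.antisymm (hM.2 hN.1 h2)

end Cfsg.FT.SFT
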